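import Groth.Prelude.Def_LogNCD
import Groth.Agent.QCoh.Sections
import Groth.Agent.QCoh.ClosedPush

/-!
Log modules on affine opens where all components of the divisor are principal.
-/

universe u

open CategoryTheory CategoryTheory.Limits AlgebraicGeometry TopologicalSpace Opposite

namespace Groth.Agent.LogNCD2

set_option backward.isDefEq.respectTransparency false
set_option backward.isDefEq.respectTransparency.types false

variable {X S : Scheme.{u}} {f : X ⟶ S} {Ω' : X.Modules} {d : OmegaSh.Der f Ω'} {r : ℕ}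
  {D : Fin r → X.IdealSheafData}

/-- All components are principal on the affine open. -/
def Good (D : Fin r → X.IdealSheafData) (U : X.affineOpens) : Prop :=
  ∀ i, ∃ g : Γ(X, U.1), (D i).ideal U = Ideal.span {g}

theorem span_res {I : X.IdealSheafData} {U V : X.affineOpens} (h : V.1 ≤ U.1) {g : Γ(X, U.1)}
    (hg : I.ideal U = Ideal.span {g}) :
    I.ideal V = Ideal.span {X.presheaf.map (homOfLE h).op g} := by
  rw [← I.map_ideal (U := V) (V := U) h, hg, Ideal.map_span, Set.image_singleton]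
  rfl

theorem Good.mono {U V : X.affineOpens} (hU : Good D U) (h : V.1 ≤ U.1) : Good D V := fun i =>
  let ⟨_, hg⟩ := hU i
  ⟨_, span_res h hg⟩

theorem good_reindex {r' : ℕ} (e : Fin r' → Fin r) {U : X.affineOpens} (hU : Good D U) : Good (D ∘ e) U :=
  fun i => hU (e i)

theorem ideal_eq_top {I : X.IdealSheafData} {U : X.affineOpens} (h : ∀ x ∈ U.1, x ∉ I.support) :
    I.ideal U = ⊤ := by
  rw [← PrimeSpectrum.zeroLocus_empty_iff_eq_top, Set.eq_empty_iff_forall_notMem]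
  intro p hp
  have hmem : U.2.fromSpec p ∈ (U.1 : Set X) := by
    rw [← U.2.range_fromSpec]
    exact Set.mem_range_self p
  refine h _ hmem ((Scheme.IdealSheafData.mem_support_iff_of_mem hmem).2 ?_)
  exact ((U.2.fromSpec_image_zeroLocus _).le (Set.mem_image_of_mem _ hp)).1

theorem exists_good {g : X ⟶ S} (hD : LogNCD.IsNCD D g) {O : X.Opens} {x : X} (hx : x ∈ O) :
    ∃ V : X.affineOpens, x ∈ V.1 ∧ V.1 ≤ O ∧ Good D V := by
  classical
  by_cases hT : Nonempty (LogNCD.Through D x)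
  · obtain ⟨W, hxW, n, v, e, -, -, hin, hout⟩ := hD x hT
    obtain ⟨_, ⟨V, hV, rfl⟩, hxV, hVle⟩ :=
      X.isBasis_affineOpens.exists_subset_of_mem_open (show x ∈ O ⊓ W from ⟨hx, hxW⟩) (O ⊓ W).2
    refine ⟨⟨V, hV⟩, hxV, fun y hy => (hVle hy).1, fun i => ?_⟩
    by_cases hi : x ∈ (D i).support
    · exact ⟨_, hin ⟨i, hi⟩ ⟨V, hV⟩ (fun y hy => (hVle hy).2)⟩
    · exact ⟨1, (hout i hi ⟨V, hV⟩ fun y hy => (hVle hy).2).trans Ideal.span_singleton_one.symm⟩
  · let A : X.Opens := ⟨(⋃ i, ((D i).support : Set X))ᶜ,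
      (isClosed_iUnion_of_finite fun i => (D i).support.isClosed).isOpen_compl⟩
    have hxA : x ∈ A := fun h => by
      obtain ⟨i, hi⟩ := Set.mem_iUnion.1 h
      exact hT ⟨⟨i, hi⟩⟩
    obtain ⟨_, ⟨V, hV, rfl⟩, hxV, hVle⟩ :=
      X.isBasis_affineOpens.exists_subset_of_mem_open (show x ∈ O ⊓ A from ⟨hx, hxA⟩) (O ⊓ A).2
    exact ⟨⟨V, hV⟩, hxV, fun y hy => (hVle hy).1, fun i => ⟨1,
      (ideal_eq_top fun y hy hyi => (hVle hy).2 (Set.mem_iUnion.2 ⟨i, hyi⟩)).trans Ideal.span_singleton_one.symm⟩⟩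

theorem isBasis_good {g : X ⟶ S} (hD : LogNCD.IsNCD D g) :
    Opens.IsBasis {V : X.Opens | ∃ U : X.affineOpens, U.1 = V ∧ Good D U} :=
  Opens.isBasis_iff_nbhd.2 fun {_ _} hx =>
    let ⟨V, hxV, hVO, hV⟩ := exists_good hD hx
    ⟨V.1, ⟨V, rfl, hV⟩, hxV, hVO⟩

section One

variable (I : X.IdealSheafData) (U : X.affineOpens)

theorem smul_oneOn (a : Γ(X, U.1)) :
    (a • (LogNCD.oneOn I U.1 : Γ(ClSub.quotMod I, U.1))) =
      (ClSub.toSubscheme I).app U.1 (OmegaSh.strSect X U.1 a) := by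
  change a • ((ClSub.toSubscheme I).app U.1 (OmegaSh.strSect X U.1 1)) = _
  rw [← Scheme.Modules.Hom.app_smul]
  congr 1
  exact mul_one a

theorem smul_oneOn_eq_zero_iff (a : Γ(X, U.1)) :
    (a • (LogNCD.oneOn I U.1 : Γ(ClSub.quotMod I, U.1))) = 0 ↔ a ∈ I.ideal U := by
  rw [smul_oneOn, ← I.ker_subschemeι_app U]
  exact Iff.rfl

theorem exists_smul_oneOn (q : Γ(ClSub.quotMod I, U.1)) :
    ∃ a : Γ(X, U.1), a • (LogNCD.oneOn I U.1 : Γ(ClSub.quotMod I, U.1)) = q := by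
  obtain ⟨a, ha⟩ := I.subschemeι_app_surjective U (show Γ(I.subscheme, I.subschemeι ⁻¹ᵁ U.1) from q)
  exact ⟨a, (smul_oneOn I U a).trans ha⟩

end One

section Rule

variable (Λ : LogNCD.LogMod d D)

theorem ι_injective (U : X.Opens) : Function.Injective (Λ.ι.app U) :=
  have := Λ.mono
  QCoh.app_injective Λ.ι U

theorem res_ι_app (i : Fin r) (U : X.Opens) (ω : Γ(Ω', U)) : (Λ.res i).app U (Λ.ι.app U ω) = 0 :=
  congr(($(Λ.res_ι i)).app U ω)

/-- The rule of a log module, on sections. -/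
structure DL (U : X.affineOpens) (g : Fin r → Γ(X, U.1)) where
  dl : Fin r → Γ(Λ.L, U.1)
  smul_dl : ∀ i, g i • dl i = Λ.ι.app U.1 (d.app U.1 (g i))
  res_self : ∀ i, (Λ.res i).app U.1 (dl i) = LogNCD.oneOn (D i) U.1
  res_ne : ∀ i j, i ≠ j → (Λ.res j).app U.1 (dl i) = 0
  exists_eq : ∀ x : Γ(Λ.L, U.1), ∃ (ω : Γ(Ω', U.1)) (a : Fin r → Γ(X, U.1)),
    x = Λ.ι.app U.1 ω + ∑ i, a i • dl i

variable {U : X.affineOpens} {g : Fin r → Γ(X, U.1)}

theorem torsion (hg : ∀ i, (D i).ideal U = Ideal.span {g i}) {x : Γ(Λ.L, U.1)}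
    (hx : (∏ i, g i) • x = 0) : x = 0 :=
  (Λ.rule U g hg).1 x hx

theorem nonempty_dl (hg : ∀ i, (D i).ideal U = Ideal.span {g i}) : Nonempty (DL Λ U g) := by
  obtain ⟨dl, h1, h2, h3, h4⟩ := (Λ.rule U g hg).2
  refine ⟨⟨dl, h1, h3, h4, fun x => ?_⟩⟩
  let φ : Γ(Ω', U.1) →ₗ[Γ(X, U.1)] Γ(Λ.L, U.1) := (Λ.ι.val.app (op U.1)).hom
  let T : Submodule Γ(X, U.1) Γ(Λ.L, U.1) :=
    LinearMap.range φ ⊔ Submodule.span Γ(X, U.1) (Set.range dl)
  have hT : x ∈ T := by
    refine (Submodule.span_le.2 ?_ : Submodule.span Γ(X, U.1)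
      (Set.range φ ∪ Set.range dl) ≤ T) ((h2.symm ▸ Submodule.mem_top : x ∈ _))
    exact Set.union_subset (fun y hy => Submodule.mem_sup_left hy)
      (fun y hy => Submodule.mem_sup_right (Submodule.subset_span hy))
  obtain ⟨y, ⟨ω, rfl⟩, z, hz, rfl⟩ := Submodule.mem_sup.1 hT
  obtain ⟨a, ha⟩ := (Submodule.mem_span_range_iff_exists_fun _).1 hz
  exact ⟨ω, a, by rw [ha]; rfl⟩

variable {Λ} (L : DL Λ U g)

theorem res_eq {x : Γ(Λ.L, U.1)} {ω : Γ(Ω', U.1)} {a : Fin r → Γ(X, U.1)}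
    (hx : x = Λ.ι.app U.1 ω + ∑ i, a i • L.dl i) (i : Fin r) :
    (Λ.res i).app U.1 x = a i • (LogNCD.oneOn (D i) U.1 : Γ(ClSub.quotMod (D i), U.1)) := by
  classical
  rw [hx, map_add, res_ι_app, zero_add, map_sum, Finset.sum_eq_single i]
  · rw [Scheme.Modules.Hom.app_smul, L.res_self]
  · intro j _ hj
    rw [Scheme.Modules.Hom.app_smul, L.res_ne j i hj, smul_zero]
  · exact fun h => absurd (Finset.mem_univ i) h

/-- A section without residue along `D_i` involves the logarithmic differential only through a form without poles. -/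
theorem exists_eq_of_res_eq_zero (hg : ∀ i, (D i).ideal U = Ideal.span {g i}) (i : Fin r)
    {x : Γ(Λ.L, U.1)} {ω : Γ(Ω', U.1)} {a : Fin r → Γ(X, U.1)}
    (hx : x = Λ.ι.app U.1 ω + ∑ j, a j • L.dl j) (h : (Λ.res i).app U.1 x = 0) :
    ∃ c, a i = c * g i := by
  rw [res_eq L hx i, smul_oneOn_eq_zero_iff, hg i, Ideal.mem_span_singleton'] at h
  obtain ⟨c, hc⟩ := h
  exact ⟨c, hc.symm⟩

include L in
/-- Sections without residues are forms without poles. -/
theorem exists_ι_eq (hg : ∀ i, (D i).ideal U = Ideal.span {g i}) {x : Γ(Λ.L, U.1)}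
    (h : ∀ i, (Λ.res i).app U.1 x = 0) : ∃ ω, Λ.ι.app U.1 ω = x := by
  obtain ⟨ω, a, hx⟩ := L.exists_eq x
  choose c hc using fun i => exists_eq_of_res_eq_zero L hg i hx (h i)
  refine ⟨ω + ∑ i, c i • d.app U.1 (g i), ?_⟩
  rw [hx, map_add, map_sum]
  congr 1
  refine Finset.sum_congr rfl fun i _ => ?_
  rw [Scheme.Modules.Hom.app_smul, ← L.smul_dl, smul_smul, hc]

end Rule

/-- A map out of `M` is zero if it is zero on a basis of opens. -/
theorem hom_eq_zero_of_isBasis {M N : X.Modules} (φ : M ⟶ N) {B : Set X.Opens} (hB : Opens.IsBasis B)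
    (h : ∀ U ∈ B, ∀ x, φ.app U x = 0) : φ = 0 := by
  refine Scheme.Modules.hom_ext _ _ fun U => ?_
  ext x
  refine (QCoh.eq_zero_of_locally U _ fun p hp => ?_).trans rfl
  obtain ⟨V, hV, hpV, hVU⟩ := Opens.isBasis_iff_nbhd.1 hB hp
  exact ⟨V, homOfLE hVU, hpV, (QCoh.map_app_comm φ _ x).symm.trans (h V hV _)⟩

theorem epi_of_surjective_isBasis {M N : X.Modules} (φ : M ⟶ N) {B : Set X.Opens} (hB : Opens.IsBasis B)
    (h : ∀ U ∈ B, Function.Surjective (φ.app U)) : Epi φ :=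
  Preadditive.epi_of_cancel_zero _ fun {_} ψ hψ => hom_eq_zero_of_isBasis ψ hB fun U hU x => by
    obtain ⟨y, rfl⟩ := h U hU x
    exact congr(($hψ).app U y)

/-- A short complex with injective left map and exact on sections over a basis is exact. -/
theorem exact_of_isBasis {A B' C : X.Modules} (a : A ⟶ B') (b : B' ⟶ C) (w : a ≫ b = 0) [Mono a]
    {B : Set X.Opens} (hB : Opens.IsBasis B)
    (h : ∀ U ∈ B, ∀ x, b.app U x = 0 → ∃ y, a.app U y = x) : (ShortComplex.mk a b w).Exact := by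
  let χ : A ⟶ kernel b := kernel.lift b a w
  have hχ : ∀ (U : X.Opens) (y : Γ(A, U)), (kernel.ι b).app U (χ.app U y) = a.app U y := fun U y =>
    congr(($(kernel.lift_ι b a w)).app U y)
  have : IsIso χ := by
    refine QCoh.isIso_of_isBasis χ hB fun U hU => ⟨fun y y' e => ?_, fun z => ?_⟩
    · exact QCoh.app_injective a U (by rw [← hχ, ← hχ, e])
    · obtain ⟨y, hy⟩ := h U hU ((kernel.ι b).app U z) congr(($(kernel.condition b)).app U z)
      exact ⟨y, QCoh.app_injective (kernel.ι b) U ((hχ U y).trans hy)⟩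
  exact ShortComplex.exact_of_f_is_kernel _
    (IsKernel.isoKernel b a (kernelIsKernel b) (asIso χ) (kernel.lift_ι b a w))

theorem sum_app {ι : Type*} (s : Finset ι) {M N : X.Modules} (φ : ι → (M ⟶ N)) (U : X.Opens) (x : Γ(M, U)) :
    (∑ i ∈ s, φ i).app U x = ∑ i ∈ s, (φ i).app U x := by
  classical
  induction s using Finset.induction_on with
  | empty => simp [Scheme.Modules.Hom.zero_app]
  | @insert a s ha ih => rw [Finset.sum_insert ha, Finset.sum_insert ha, Scheme.Modules.Hom.add_app, ← ih]; rfl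

/-- A section of a finite product is zero if its components are. -/
theorem pi_eq_zero {ι : Type} [Finite ι] (P : ι → X.Modules) (U : X.Opens) (q : Γ(∏ᶜ P, U))
    (h : ∀ i, (Pi.π P i).app U q = 0) : q = 0 := by
  classical
  cases nonempty_fintype ι
  let s : ∀ i, P i ⟶ ∏ᶜ P := fun i => Pi.lift fun j => if e : i = j then eqToHom (congrArg P e) else 0
  have hid : 𝟙 (∏ᶜ P) = ∑ i, Pi.π P i ≫ s i := by
    refine Pi.hom_ext _ _ fun j => ?_
    rw [Category.id_comp, Preadditive.sum_comp, Finset.sum_eq_single j]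
    · simp [s]
    · intro i _ hij
      simp [s, hij]
    · exact fun hj => absurd (Finset.mem_univ j) hj
  have hq : Scheme.Modules.Hom.app (𝟙 (∏ᶜ P)) U q = 0 := by
    rw [hid, sum_app]
    refine Finset.sum_eq_zero fun i _ => ?_
    show (s i).app U ((Pi.π P i).app U q) = 0
    rw [h i, map_zero]
  exact hq

end Groth.Agent.LogNCD2
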