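import Groth.Prelude.Def_LogNCD2
import Groth.Agent.LogNCD2.Basic
import Groth.Agent.H23.TensorDesc
import Groth.Agent.AmpleVan.Mul

/-!
The residue of a logarithmic connection.
-/

universe u

open CategoryTheory CategoryTheory.Limits AlgebraicGeometry TopologicalSpace Opposite

noncomputable section

namespace Groth.Agent.LogNCD2

set_option backward.isDefEq.respectTransparency false
set_option backward.isDefEq.respectTransparency.types false

variable {X S : Scheme.{u}} {f : X ⟶ S} {Ω' : X.Modules} {d : OmegaSh.Der f Ω'} {r : ℕ}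
  {D : Fin r → X.IdealSheafData}

theorem tmul_right_zero {M N : X.Modules} (U : X.Opens) (m : Γ(M, U)) :
    SecTwist.tmul M N U m (0 : Γ(N, U)) = 0 := by
  unfold SecTwist.tmul
  erw [TensorProduct.tmul_zero]
  exact map_zero _

section Mult

variable (I : X.IdealSheafData)

/-- Multiplication of sections of a closed subscheme. -/
def mulQ (U : X.Opens) (a b : Γ(ClSub.quotMod I, U)) : Γ(ClSub.quotMod I, U) :=
  show Γ(I.subscheme, I.subschemeι ⁻¹ᵁ U) from
    (show Γ(I.subscheme, I.subschemeι ⁻¹ᵁ U) from a) * (show Γ(I.subscheme, I.subschemeι ⁻¹ᵁ U) from b)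

/-- Multiplication of `O_D`. -/
def mulBil : H23.TensorDesc.Bilin (ClSub.quotMod I) (ClSub.quotMod I) (ClSub.quotMod I) where
  b := mulQ I
  add_left U a a' b := add_mul (R := Γ(I.subscheme, I.subschemeι ⁻¹ᵁ U)) a a' b
  smul_left U t a b := mul_assoc (G := Γ(I.subscheme, I.subschemeι ⁻¹ᵁ U)) (I.subschemeι.app U t) a b
  add_right U a b b' := mul_add (R := Γ(I.subscheme, I.subschemeι ⁻¹ᵁ U)) a b b'
  smul_right U t a b := mul_left_comm (G := Γ(I.subscheme, I.subschemeι ⁻¹ᵁ U)) a (I.subschemeι.app U t) b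
  res {U V} h a b := map_mul (I.subscheme.presheaf.map
    ((Opens.map I.subschemeι.base).map (homOfLE h)).op).hom (show Γ(I.subscheme, I.subschemeι ⁻¹ᵁ U) from a)
    (show Γ(I.subscheme, I.subschemeι ⁻¹ᵁ U) from b)

theorem mulQ_one (U : X.Opens) (a : Γ(ClSub.quotMod I, U)) :
    mulQ I U a (LogNCD.oneOn I U) = a := by
  show (show Γ(I.subscheme, I.subschemeι ⁻¹ᵁ U) from a) * (I.subschemeι.app U 1) = _
  rw [map_one, mul_one]

/-- `(E ⊗ O_D) ⊗ O_D → E ⊗ O_D`. -/
def collapse (E : X.Modules) :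
    CohB1.tensorMod (CohB1.tensorMod E (ClSub.quotMod I)) (ClSub.quotMod I) ⟶
      CohB1.tensorMod E (ClSub.quotMod I) :=
  (AmpleVan.assocT E (ClSub.quotMod I) (ClSub.quotMod I)).hom ≫
    KoszTw.tensorMap (𝟙 E) (H23.TensorDesc.desc (mulBil I))

theorem collapse_tmul (E : X.Modules) (U : X.Opens) (e : Γ(E, U)) (q : Γ(ClSub.quotMod I, U)) :
    (collapse I E).app U (SecTwist.tmul _ (ClSub.quotMod I) U (SecTwist.tmul E (ClSub.quotMod I) U e q)
      (LogNCD.oneOn I U)) = SecTwist.tmul E (ClSub.quotMod I) U e q := by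
  show (KoszTw.tensorMap (𝟙 E) (H23.TensorDesc.desc (mulBil I))).app U
    ((AmpleVan.assocT E _ _).hom.app U (InvX.tmul (InvX.tmul e q) (LogNCD.oneOn I U))) = _
  rw [AmpleVan.assoc_tmul]
  refine (KoszTw.tensorMap_tmul _ _ U e _).trans ?_
  exact congrArg (SecTwist.tmul E (ClSub.quotMod I) U e)
    ((H23.TensorDesc.desc_tmul (mulBil I) U q _).trans (mulQ_one I U q))

theorem unitorR_inv_app (F : X.Modules) (U : X.Opens) (z : Γ(F, U)) :
    (SecTwist.unitorR F).inv.app U z =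
      SecTwist.tmul F (Coh.structureModule X) U z (OmegaSh.strSect X U 1) := by
  have h : (SecTwist.unitorR F).hom.app U
      (SecTwist.tmul F (Coh.structureModule X) U z (OmegaSh.strSect X U 1)) = z :=
    (SecTwist.unitorR_tmul F U z 1).trans (one_smul _ _)
  conv_lhs => rw [← h]
  exact congr(($((SecTwist.unitorR F).hom_inv_id)).app U _)

theorem collapse_one (E : X.Modules) (U : X.Opens) (z : Γ(CohB1.tensorMod E (ClSub.quotMod I), U)) :
    (collapse I E).app U (SecTwist.tmul _ (ClSub.quotMod I) U z (LogNCD.oneOn I U)) = z := by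
  let φ : CohB1.tensorMod E (ClSub.quotMod I) ⟶ CohB1.tensorMod E (ClSub.quotMod I) :=
    (SecTwist.unitorR _).inv ≫ KoszTw.tensorMap (𝟙 _) (ClSub.toSubscheme I) ≫ collapse I E
  have hφ : ∀ (V : X.Opens) (w : Γ(CohB1.tensorMod E (ClSub.quotMod I), V)),
      φ.app V w = (collapse I E).app V (SecTwist.tmul _ (ClSub.quotMod I) V w (LogNCD.oneOn I V)) :=
    fun V w => congrArg ((collapse I E).app V) ((congrArg _ (unitorR_inv_app _ V w)).trans
      (KoszTw.tensorMap_tmul _ _ V w _))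
  have h1 : φ = 𝟙 _ := AmpleVan.hom_ext_tmul (N := ClSub.quotMod I) (M := E) fun V e q =>
    ((hφ V _).trans (collapse_tmul I E V e q)).trans rfl
  rw [← hφ, h1]
  rfl

end Mult

/-- Every map into `E ⊗ O_D` is the restriction followed by an endomorphism of `E ⊗ O_D`. -/
theorem restrict_comp_collapse {E : X.Modules} (I : X.IdealSheafData)
    (ρ : E ⟶ CohB1.tensorMod E (ClSub.quotMod I)) :
    (SecTwist.unitorR E).inv ≫ KoszTw.tensorMap (𝟙 E) (ClSub.toSubscheme I) ≫
      KoszTw.tensorMap ρ (𝟙 (ClSub.quotMod I)) ≫ collapse I E = ρ := by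
  rw [← Category.assoc (KoszTw.tensorMap (𝟙 E) (ClSub.toSubscheme I)), ← KoszTw.tensorMap_comp,
    Category.id_comp, Category.comp_id]
  refine Scheme.Modules.hom_ext _ _ fun U => ?_
  ext e
  have h1 := unitorR_inv_app E U e
  have h2 := KoszTw.tensorMap_tmul ρ (ClSub.toSubscheme I) U e (OmegaSh.strSect X U 1)
  exact ((congrArg (fun w => (collapse I E).app U ((KoszTw.tensorMap ρ (ClSub.toSubscheme I)).app U w)) h1).trans
    (congrArg (fun w => (collapse I E).app U w) h2)).trans (collapse_one I E U (ρ.app U e))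

theorem res_conn_smul (Λ : LogNCD.LogMod d D) (E : X.Modules)
    (nabla : Coh.toAb E ⟶ Coh.toAb (CohB1.tensorMod E Λ.L))
    (hc : ConnSh.IsConn (LogNCD.der Λ) E nabla) (i : Fin r) (U : X.Opens) (t : Γ(X, U)) (e : Γ(E, U)) :
    (KoszTw.tensorMap (𝟙 E) (Λ.res i)).app U (ConnSh.secApp nabla U (t • e)) =
      t • (KoszTw.tensorMap (𝟙 E) (Λ.res i)).app U (ConnSh.secApp nabla U e) := by
  rw [hc U t e, map_add, Scheme.Modules.Hom.app_smul, add_eq_left]
  refine (KoszTw.tensorMap_tmul _ _ U e _).trans ?_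
  rw [show (Λ.res i).app U ((LogNCD.der Λ).app U t) = 0 from res_ι_app Λ i U _]
  exact tmul_right_zero U _

theorem exists_isResidue (Λ : LogNCD.LogMod d D) (E : X.Modules)
    (nabla : Coh.toAb E ⟶ Coh.toAb (CohB1.tensorMod E Λ.L))
    (hc : ConnSh.IsConn (LogNCD.der Λ) E nabla) (i : Fin r) :
    ∃ ρ : E ⟶ CohB1.tensorMod E (ClSub.quotMod (D i)), LogNCD.IsResidue Λ E nabla i ρ ∧
      ∃ R : CohB1.tensorMod E (ClSub.quotMod (D i)) ⟶ CohB1.tensorMod E (ClSub.quotMod (D i)),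
        (SecTwist.unitorR E).inv ≫ KoszTw.tensorMap (𝟙 E) (ClSub.toSubscheme (D i)) ≫ R = ρ := by
  let T : Coh.toAb E ⟶ Coh.toAb (CohB1.tensorMod E (ClSub.quotMod (D i))) :=
    nabla ≫ (SheafOfModules.toSheaf X.ringCatSheaf).map (KoszTw.tensorMap (𝟙 E) (Λ.res i))
  let ρ : E ⟶ CohB1.tensorMod E (ClSub.quotMod (D i)) :=
    ⟨PresheafOfModules.homMk T.hom fun U t e => res_conn_smul Λ E nabla hc i U.unop t e⟩
  exact ⟨ρ, rfl, _, restrict_comp_collapse (D i) ρ⟩

end Groth.Agent.LogNCD2
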