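import Groth.Agent.LogNCD2.TwImage
import Groth.Agent.LogNCD2.Residue
import Groth.Agent.QCoh.LocFree

/-!
Residues on charts.
-/

universe u

open CategoryTheory CategoryTheory.Limits AlgebraicGeometry TopologicalSpace Opposite exteriorPower TensorProduct

noncomputable section

namespace Groth.Agent.LogNCD2

set_option backward.isDefEq.respectTransparency false
set_option backward.isDefEq.respectTransparency.types false

variable {X S : Scheme.{u}} {f : X ⟶ S} {Ω' : X.Modules} {d : OmegaSh.Der f Ω'} {r : ℕ}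
  {D : Fin r → X.IdealSheafData}

section One

variable (E : X.Modules) (I : X.IdealSheafData) (V : X.affineOpens)

/-- Restriction to the closed subscheme, on sections. -/
def tone : Γ(E, V.1) →ₗ[Γ(X, V.1)] Γ(CohB1.tensorMod E (ClSub.quotMod I), V.1) where
  toFun a := QCoh.tmS E (ClSub.quotMod I) a (LogNCD.oneOn I V.1)
  map_add' a b := QCoh.tmS_add_left _ _ a b _
  map_smul' t a := QCoh.tmS_smul_left _ _ t a _

theorem tone_apply (a : Γ(E, V.1)) :
    tone E I V a = SecTwist.tmul E (ClSub.quotMod I) V.1 a (LogNCD.oneOn I V.1) := rfl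

theorem tone_smul_gen {g : Γ(X, V.1)} (hg : I.ideal V = Ideal.span {g}) (c : Γ(E, V.1)) :
    tone E I V (g • c) = 0 := by
  show QCoh.tmS E (ClSub.quotMod I) (g • c) (LogNCD.oneOn I V.1) = 0
  rw [QCoh.tmS_smul_left, ← QCoh.tmS_smul_right,
    (smul_oneOn_eq_zero_iff I V g).2 (hg ▸ Ideal.mem_span_singleton_self g), ← QCoh.tmLin_tmul, tmul_zero, map_zero]

theorem isQCoh_quotMod : Coh.IsQCoh (ClSub.quotMod I) :=
  QCoh.isQCoh_pushforward I.subschemeι QCoh.isQCoh_structureModule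

theorem exists_tone_eq (hE : Coh.IsQCoh E) (z : Γ(CohB1.tensorMod E (ClSub.quotMod I), V.1)) :
    ∃ a, tone E I V a = z := by
  obtain ⟨z, rfl⟩ := (QCoh.bijective_tmLin hE (isQCoh_quotMod I) V.2).2 z
  induction z with
  | zero => exact ⟨0, by rw [map_zero, map_zero]⟩
  | tmul e q =>
    obtain ⟨t, rfl⟩ := exists_smul_oneOn I V q
    refine ⟨t • e, ?_⟩
    rw [QCoh.tmLin_tmul, QCoh.tmS_smul_right, map_smul]
    rfl
  | add x y hx hy =>
    obtain ⟨a, ha⟩ := hx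
    obtain ⟨b, hb⟩ := hy
    exact ⟨a + b, by rw [map_add, ha, hb, map_add]⟩

theorem exists_of_tone_eq_zero (hE : Coh.IsQCoh E) {g : Γ(X, V.1)} (hg : I.ideal V = Ideal.span {g}) {n : ℕ}
    (bE : Module.Basis (Fin n) Γ(X, V.1) Γ(E, V.1)) {a : Γ(E, V.1)} (ha : tone E I V a = 0) :
    ∃ c, a = g • c := by
  have h0 : a ⊗ₜ[Γ(X, V.1)] (LogNCD.oneOn I V.1 : Γ(ClSub.quotMod I, V.1)) = 0 := by
    refine (QCoh.bijective_tmLin hE (isQCoh_quotMod I) V.2).1 ?_
    rw [map_zero]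
    exact ha
  have hi : ∀ j, ∃ c, bE.coord j a = c * g := fun j => by
    have := congrArg ((TensorProduct.lid Γ(X, V.1) Γ(ClSub.quotMod I, V.1)).toLinearMap ∘ₗ
      (bE.coord j).rTensor Γ(ClSub.quotMod I, V.1)) h0
    rw [map_zero, LinearMap.comp_apply, LinearMap.rTensor_tmul, LinearEquiv.coe_coe, TensorProduct.lid_tmul,
      smul_oneOn_eq_zero_iff, hg, Ideal.mem_span_singleton'] at this
    obtain ⟨c, hc⟩ := this
    exact ⟨c, hc.symm⟩
  choose c hc using hi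
  refine ⟨∑ j, c j • bE j, ?_⟩
  conv_lhs => rw [← bE.sum_repr a]
  rw [Finset.smul_sum]
  refine Finset.sum_congr rfl fun j _ => ?_
  rw [← bE.coord_apply, hc j, smul_smul, mul_comm]

theorem restrict_app {ρ : E ⟶ CohB1.tensorMod E (ClSub.quotMod I)}
    {R : CohB1.tensorMod E (ClSub.quotMod I) ⟶ CohB1.tensorMod E (ClSub.quotMod I)}
    (hR : (SecTwist.unitorR E).inv ≫ KoszTw.tensorMap (𝟙 E) (ClSub.toSubscheme I) ≫ R = ρ) (e : Γ(E, V.1)) :
    R.app V.1 (tone E I V e) = ρ.app V.1 e := by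
  subst hR
  refine congrArg (R.app V.1) ?_
  exact (KoszTw.tensorMap_tmul (𝟙 E) (ClSub.toSubscheme I) V.1 e (OmegaSh.strSect X V.1 1)).symm.trans
    (congrArg ((KoszTw.tensorMap (𝟙 E) (ClSub.toSubscheme I)).app V.1) (unitorR_inv_app E V.1 e)).symm

end One

variable {Λ : LogNCD.LogMod d D} {E : X.Modules} {nabla : Coh.toAb E ⟶ Coh.toAb (CohB1.tensorMod E Λ.L)}
  (K : ConnSh.Cx (LogNCD.der Λ) E nabla) (i : Fin r) {V : X.affineOpens} (ℓ : Γ(Λ.L, V.1) →ₗ[Γ(X, V.1)] Γ(X, V.1))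
  (hℓ : ∀ x, (Λ.res i).app V.1 x = ℓ x • (LogNCD.oneOn (D i) V.1 : Γ(ClSub.quotMod (D i), V.1)))

include hℓ in
theorem res_loc (z : Γ(E, V.1) ⊗[Γ(X, V.1)] ↥(⋀[Γ(X, V.1)]^1 Γ(Λ.L, V.1))) :
    (KoszTw.tensorMap (𝟙 E) (Λ.res i)).app V.1 (K.iso1.hom.app V.1 ((K.loc 1 V).symm z)) =
      tone E (D i) V (ev1 Γ(E, V.1) ℓ z) := by
  induction z with
  | zero => simp
  | tmul e α =>
    obtain ⟨a, rfl⟩ := exists_one1 α
    rw [ev1_tmul, ← one1_eq]
    refine (congrArg ((KoszTw.tensorMap (𝟙 E) (Λ.res i)).app V.1) (K.loc1 V e a)).trans ?_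
    refine (KoszTw.tensorMap_tmul _ _ V.1 e a).trans ?_
    show QCoh.tmS E (ClSub.quotMod (D i)) e ((Λ.res i).app V.1 a) = QCoh.tmS E (ClSub.quotMod (D i)) (ℓ a • e) _
    rw [hℓ a, QCoh.tmS_smul_left, QCoh.tmS_smul_right]
  | add x y hx hy => simp only [map_add, hx, hy]

theorem iso1_loc (e : Γ(E, V.1)) :
    K.iso1.hom.app V.1 ((K.loc 1 V).symm (NE K V e)) = ConnSh.secApp nabla V.1 e := by
  show K.iso1.hom.app V.1 ((K.loc 1 V).symm (K.loc 1 V (K.iso1.inv.app V.1 (ConnSh.secApp nabla V.1 e)))) = _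
  rw [LinearEquiv.symm_apply_apply]
  exact congr(($(K.iso1.inv_hom_id)).app V.1 (ConnSh.secApp nabla V.1 e))

include hℓ in
/-- The residue in terms of the connection matrix. -/
theorem residue_app {ρ : E ⟶ CohB1.tensorMod E (ClSub.quotMod (D i))} (hρ : LogNCD.IsResidue Λ E nabla i ρ)
    (e : Γ(E, V.1)) : ρ.app V.1 e = tone E (D i) V (ev1 Γ(E, V.1) ℓ (NE K V e)) := by
  rw [← res_loc K i ℓ hℓ, iso1_loc]
  exact congr(($hρ).hom.app (op V.1) e)

section Twist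

variable {F : X.Modules} {I : X.IdealSheafData} {nablaF : Coh.toAb F ⟶ Coh.toAb (CohB1.tensorMod F Λ.L)}
  (KF : ConnSh.Cx (LogNCD.der Λ) F nablaF)
  {nabla' : Coh.toAb (CohB1.tensorMod F (ClSub.idealMod I)) ⟶
    Coh.toAb (CohB1.tensorMod (CohB1.tensorMod F (ClSub.idealMod I)) Λ.L)}
  (K' : ConnSh.Cx (LogNCD.der Λ) (CohB1.tensorMod F (ClSub.idealMod I)) nabla')

theorem inclTwist_theta {W : X.Opens} (k : Γ(ClSub.idealMod I, W)) (a : Γ(F, W)) :
    (LogNCD.inclTwist F I).app W (theta F W k a) = OmegaSh.idealSect I W k • a := by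
  refine (congrArg ((SecTwist.unitorR F).hom.app W) (KoszTw.tensorMap_tmul (𝟙 F) (ClSub.idealModι I) W a k)).trans ?_
  exact SecTwist.unitorR_tmul F W a _

theorem incl_loc (k : Γ(ClSub.idealMod I, V.1)) (z : Γ(F, V.1) ⊗[Γ(X, V.1)] ↥(⋀[Γ(X, V.1)]^1 Γ(Λ.L, V.1))) :
    (KoszTw.tensorMap (LogNCD.inclTwist F I) (𝟙 Λ.L)).app V.1
        (K'.iso1.hom.app V.1 ((K'.loc 1 V).symm ((theta F V.1 k).rTensor _ z))) =
      KF.iso1.hom.app V.1 ((KF.loc 1 V).symm (OmegaSh.idealSect I V.1 k • z)) := by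
  induction z with
  | zero => simp
  | tmul e α =>
    obtain ⟨a, rfl⟩ := exists_one1 α
    rw [LinearMap.rTensor_tmul, smul_tmul', ← one1_eq]
    refine (congrArg _ (K'.loc1 V _ a)).trans ?_
    refine ((KoszTw.tensorMap_tmul _ _ V.1 _ a).trans ?_).trans (KF.loc1 V _ a).symm
    exact congrArg (fun b => SecTwist.tmul F Λ.L V.1 b a) (inclTwist_theta k e)
  | add x y hx hy => simp only [map_add, smul_add, hx, hy]

set_option maxHeartbeats 1000000 in
/-- The connection on a twist in terms of that on the module. -/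
theorem NE_theta (hcF : ConnSh.IsConn (LogNCD.der Λ) F nablaF) (ht : LogNCD.IsTwist Λ F nablaF I nabla')
    (hF : Coh.IsQCoh F) {k : Γ(ClSub.idealMod I, V.1)}
    (hk : I.ideal V = Ideal.span {OmegaSh.idealSect I V.1 k})
    (hreg : IsSMulRegular (Γ(F, V.1) ⊗[Γ(X, V.1)] ↥(⋀[Γ(X, V.1)]^1 Γ(Λ.L, V.1))) (OmegaSh.idealSect I V.1 k))
    {η : Γ(Λ.L, V.1)}
    (hη : (LogNCD.der Λ).app V.1 (OmegaSh.idealSect I V.1 k) = OmegaSh.idealSect I V.1 k • η) (a : Γ(F, V.1)) :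
    NE K' V (theta F V.1 k a) = (theta F V.1 k).rTensor _ (NE KF V a + a ⊗ₜ one1 η) := by
  obtain ⟨z, hz⟩ := LinearMap.rTensor_surjective (↥(⋀[Γ(X, V.1)]^1 Γ(Λ.L, V.1))) (theta_surjective hF hk)
    (NE K' V (theta F V.1 k a))
  rw [← hz]
  congr 1
  refine hreg ?_
  show OmegaSh.idealSect I V.1 k • z = OmegaSh.idealSect I V.1 k • (NE KF V a + a ⊗ₜ one1 η)
  have h1 := incl_loc KF K' k z
  rw [hz, iso1_loc] at h1
  have h2 : (KoszTw.tensorMap (LogNCD.inclTwist F I) (𝟙 Λ.L)).app V.1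
      (ConnSh.secApp nabla' V.1 (theta F V.1 k a)) =
      ConnSh.secApp nablaF V.1 ((LogNCD.inclTwist F I).app V.1 (theta F V.1 k a)) :=
    congr(($ht).hom.app (op V.1) (theta F V.1 k a))
  rw [h2, inclTwist_theta] at h1
  have h3 : NE KF V (OmegaSh.idealSect I V.1 k • a) = OmegaSh.idealSect I V.1 k • z := by
    show KF.loc 1 V (KF.iso1.inv.app V.1 (ConnSh.secApp nablaF V.1 _)) = _
    rw [h1]
    refine (congrArg (KF.loc 1 V) ?_).trans ((KF.loc 1 V).apply_symm_apply _)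
    exact congr(($(KF.iso1.hom_inv_id)).app V.1 _)
  rw [← h3, NE_smul KF hcF, hη, one1_smul, tmul_smul, smul_add]

theorem ev1_rTensor (k : Γ(ClSub.idealMod I, V.1))
    (z : Γ(F, V.1) ⊗[Γ(X, V.1)] ↥(⋀[Γ(X, V.1)]^1 Γ(Λ.L, V.1))) :
    ev1 _ ℓ ((theta F V.1 k).rTensor _ z) = theta F V.1 k (ev1 _ ℓ z) := by
  induction z with
  | zero => simp
  | tmul e α =>
    obtain ⟨a, rfl⟩ := exists_one1 α
    rw [LinearMap.rTensor_tmul, ev1_tmul, ev1_tmul, map_smul]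
  | add x y hx hy => simp only [map_add, hx, hy]

end Twist

end Groth.Agent.LogNCD2
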