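import Groth.Agent.LogNCD2.Free
import Groth.Agent.QCoh.Submod

/-!
Forms with arbitrary poles along a normal crossing divisor, and the forms with logarithmic poles among them.
-/

universe u

open CategoryTheory CategoryTheory.Limits AlgebraicGeometry TopologicalSpace Opposite

noncomputable section

namespace Groth.Agent.LogNCD2

set_option backward.isDefEq.respectTransparency false
set_option backward.isDefEq.respectTransparency.types false

variable {X S : Scheme.{u}} {f : X ⟶ S} {Ω' : X.Modules} (d : OmegaSh.Der f Ω') {r : ℕ}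
  (D : Fin r → X.IdealSheafData)

/-- The complement of the divisor. -/
def offD : X.Opens :=
  ⟨(⋃ i, ((D i).support : Set X))ᶜ, (isClosed_iUnion_of_finite fun i => (D i).support.isClosed).isOpen_compl⟩

variable (Ω') in
/-- Forms on the complement of the divisor. -/
def amb : X.Modules :=
  (Scheme.Modules.pushforward (offD D).ι).obj (Ω'.restrict (offD D).ι)

variable (Ω') in
/-- Restriction to the complement. -/
def eta : Ω' ⟶ amb Ω' D :=
  (Scheme.Modules.restrictAdjunction (offD D).ι).unit.app Ω'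

theorem smul_bijective (U : X.Opens) (a : Γ(X, U)) (h : U ⊓ offD D ≤ X.basicOpen a) :
    Function.Bijective fun m : Γ(amb Ω' D, U) => a • m := by
  have hu : IsUnit ((offD D).ι.app U a) := by
    have htop : (offD D).ι ⁻¹ᵁ U ≤ ((offD D : Scheme.{u})).basicOpen ((offD D).ι.app U a) := by
      rw [← Scheme.preimage_basicOpen]
      exact fun y hy => h ⟨hy, y.2⟩
    exact RingedSpace.isUnit_of_isUnit_germ ((offD D : Scheme.{u})).toLocallyRingedSpace.toRingedSpace _ _
      fun y hy => ((offD D : Scheme.{u}).mem_basicOpen _ y hy).1 (htop hy)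
  exact (show Function.Bijective fun m : Γ(Ω'.restrict (offD D).ι, (offD D).ι ⁻¹ᵁ U) =>
    (offD D).ι.app U a • m from hu.smul_bijective)

theorem eta_app (U : X.Opens) (ω : Γ(Ω', U)) :
    (eta Ω' D).app U ω = Ω'.presheaf.map (homOfLE ((offD D).ι.image_preimage_le U)).op ω := by
  show ((Scheme.Modules.restrictAdjunction (offD D).ι).unit.app Ω').app U ω = _
  rw [Scheme.Modules.restrictAdjunction_unit_app_app]
  rfl

variable {D}

theorem unit_le_basicOpen {U : X.affineOpens} (i : Fin r) {g : Γ(X, U.1)} (hg : (D i).ideal U = Ideal.span {g}) :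
    U.1 ⊓ offD D ≤ X.basicOpen g := by
  intro y hy
  by_contra hb
  refine hy.2 (Set.mem_iUnion.2 ⟨i, (Scheme.IdealSheafData.mem_support_iff_of_mem (I := D i) (U := U) hy.1).2 ?_⟩)
  rw [hg, Scheme.zeroLocus_span, Scheme.zeroLocus_singleton]
  exact hb

theorem smul_gen_bijective {U : X.affineOpens} (i : Fin r) {g : Γ(X, U.1)} (hg : (D i).ideal U = Ideal.span {g}) :
    Function.Bijective fun m : Γ(amb Ω' D, U.1) => g • m :=
  smul_bijective D U.1 g (unit_le_basicOpen i hg)

/-- Coordinates adapted to the divisor on an affine open. -/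
structure ChartOn (V : X.affineOpens) where
  σ : Type u
  fin : Fintype σ
  g : Fin r → Γ(X, V.1)
  gen : ∀ i, (D i).ideal V = Ideal.span {g i}
  reg : ∀ i, IsSMulRegular Γ(X, V.1) (g i)
  b : Module.Basis σ Γ(X, V.1) Γ(Ω', V.1)
  idx : Fin r → Option σ
  idx_some : ∀ i k, idx i = some k → b k = d.app V.1 (g i)
  idx_none : ∀ i, idx i = none → g i = 1
  idx_inj : ∀ i j k, idx i = some k → idx j = some k → i = j
  /-- the basis consists of differentials of functions -/
  coord : ∀ k, ∃ t, b k = d.app V.1 t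
  basis_res : ∀ (W : X.affineOpens) (h : W.1 ≤ V.1), ∃ b' : Module.Basis σ Γ(X, W.1) Γ(Ω', W.1),
    ∀ k, b' k = Ω'.presheaf.map (homOfLE h).op (b k)

variable {d}

theorem exists_chartOn (hd : OmegaSh.IsUniversal d) (hD : LogNCD.IsNCD D f) {O : X.Opens} {x : X} (hx : x ∈ O)
    (hxD : x ∉ offD D) : ∃ V : X.affineOpens, x ∈ V.1 ∧ V.1 ≤ O ∧ Nonempty (ChartOn d (D := D) V) := by
  classical
  obtain ⟨i₀, hi₀⟩ : ∃ i, x ∈ (D i).support := by
    by_contra hne
    exact hxD fun h => hne (Set.mem_iUnion.1 h)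
  obtain ⟨W, hxW, m, v, e, he, het, hin, hout⟩ := hD x ⟨⟨i₀, hi₀⟩⟩
  obtain ⟨_, ⟨V₀, hV₀, rfl⟩, hxV₀, -⟩ :=
    S.isBasis_affineOpens.exists_subset_of_mem_open (Set.mem_univ (f x)) isOpen_univ
  obtain ⟨_, ⟨U, hU, rfl⟩, hxU, hUle⟩ := X.isBasis_affineOpens.exists_subset_of_mem_open
    (show x ∈ O ⊓ W ⊓ f ⁻¹ᵁ V₀ from ⟨⟨hx, hxW⟩, hxV₀⟩) (O ⊓ W ⊓ f ⁻¹ᵁ V₀).2
  have hUW : U ≤ W := fun y hy => (hUle hy).1.2
  have hUV : U ≤ f ⁻¹ᵁ V₀ := fun y hy => (hUle hy).2
  obtain ⟨b, hb, hreg⟩ := exists_basis_of_chart hd W v het hV₀ ⟨U, hU⟩ hUW hUV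
  refine ⟨⟨U, hU⟩, hxU, fun y hy => (hUle hy).1.1, ⟨{
    σ := ULift.{u} (Fin m)
    fin := inferInstance
    g := fun i => if hi : x ∈ (D i).support then LogNCD.sectOn W hUW (v (ULift.up (e ⟨i, hi⟩))) else 1
    gen := fun i => ?_
    reg := fun i => ?_
    b := b
    idx := fun i => if hi : x ∈ (D i).support then some (ULift.up (e ⟨i, hi⟩)) else none
    idx_some := fun i k hk => ?_
    idx_none := fun i hk => ?_
    idx_inj := fun i j k hi hj => ?_
    coord := fun k => ⟨_, hb k⟩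
    basis_res := fun W' h => ?_ }⟩⟩
  · by_cases hi : x ∈ (D i).support
    · rw [dif_pos hi]; exact hin ⟨i, hi⟩ ⟨U, hU⟩ hUW
    · rw [dif_neg hi]; exact (hout i hi ⟨U, hU⟩ hUW).trans Ideal.span_singleton_one.symm
  · split_ifs
    · exact hreg _
    · exact IsSMulRegular.one _
  · split_ifs at hk with hi
    obtain rfl := Option.some.inj hk
    rw [dif_pos hi]
    exact hb _
  · split_ifs at hk with hi
    rw [dif_neg hi]
  · split_ifs at hi hj with h1 h2
    exact congrArg Subtype.val (he (ULift.up_injective ((Option.some.inj hi).trans (Option.some.inj hj).symm)))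
  · obtain ⟨b', hb', -⟩ := exists_basis_of_chart hd W v het hV₀ W' (h.trans hUW) (h.trans hUV)
    exact ⟨b', fun k => by rw [hb k, hb' k, res_d, sectOn_res']⟩

theorem eta_injective (hd : OmegaSh.IsUniversal d) (hD : LogNCD.IsNCD D f) (U : X.Opens) :
    Function.Injective ((eta Ω' D).app U) := by
  refine (injective_iff_map_eq_zero _).2 fun ω hω => ?_
  rw [eta_app] at hω
  refine QCoh.eq_zero_of_locally U ω fun x hx => ?_
  by_cases hxD : x ∈ offD D
  · refine ⟨U ⊓ offD D, homOfLE inf_le_left, ⟨hx, hxD⟩, ?_⟩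
    have hle : U ⊓ offD D ≤ (offD D).ι ''ᵁ ((offD D).ι ⁻¹ᵁ U) := fun y hy => ⟨⟨y, hy.2⟩, hy.1, rfl⟩
    refine Eq.trans ?_ ((congrArg (Ω'.presheaf.map (homOfLE hle).op) hω).trans (map_zero _))
    rw [← ConcreteCategory.comp_apply, ← Ω'.presheaf.map_comp]
    rfl
  obtain ⟨V, hxV, hVU, ⟨C⟩⟩ := exists_chartOn hd hD hx hxD
  refine ⟨V.1, homOfLE hVU, hxV, ?_⟩
  let := C.fin
  let P := ∏ i, C.g i
  let V' : X.affineOpens := X.affineBasicOpen P
  have hV' : V'.1 ≤ V.1 := X.basicOpen_le P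
  have hle : V'.1 ≤ (offD D).ι ''ᵁ ((offD D).ι ⁻¹ᵁ U) := fun y hy => by
    refine ⟨⟨y, fun hyD => ?_⟩, hVU (hV' hy), rfl⟩
    obtain ⟨i, hi⟩ := Set.mem_iUnion.1 hyD
    have h0 := (Scheme.IdealSheafData.mem_support_iff_of_mem (I := D i) (U := V) (hV' hy)).1 hi
    rw [C.gen i, Scheme.zeroLocus_span, Scheme.zeroLocus_singleton] at h0
    have hy' : y ∈ X.basicOpen (C.g i) := by
      have : P = C.g i * ∏ j ∈ Finset.univ.erase i, C.g j :=
        (Finset.mul_prod_erase _ _ (Finset.mem_univ i)).symm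
      have hy2 : y ∈ X.basicOpen P := hy
      rw [this, Scheme.basicOpen_mul] at hy2
      exact hy2.1
    exact h0 hy'
  set η := Ω'.presheaf.map (homOfLE hVU).op ω
  have h0 : Ω'.presheaf.map (homOfLE hV').op η = 0 := by
    refine Eq.trans ?_ ((congrArg (Ω'.presheaf.map (homOfLE hle).op) hω).trans (map_zero _))
    rw [← ConcreteCategory.comp_apply, ← ConcreteCategory.comp_apply, ← Ω'.presheaf.map_comp, ← Ω'.presheaf.map_comp]
    rfl
  obtain ⟨b', hb'⟩ := C.basis_res V' hV'
  rw [← C.b.sum_repr η, map_sum] at h0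
  simp only [Scheme.Modules.map_smul, ← hb'] at h0
  have hc := Fintype.linearIndependent_iff.1 b'.linearIndependent _ h0
  have hreg : ∀ s : Finset (Fin r), IsSMulRegular Γ(X, V.1) (∏ j ∈ s, C.g j) := fun s => by
    classical
    induction s using Finset.induction_on with
    | empty => simp
    | @insert j s hj ih => rw [Finset.prod_insert hj]; exact (C.reg j).mul ih
  rw [← C.b.sum_repr η]
  refine Finset.sum_eq_zero fun k _ => ?_
  let := X.presheaf.map (homOfLE hV').op |>.hom.toAlgebra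
  have : IsLocalization.Away P Γ(X, X.basicOpen P) := V.2.isLocalization_basicOpen P
  obtain ⟨⟨_, N, rfl⟩, hN⟩ := (IsLocalization.map_eq_zero_iff (Submonoid.powers P) Γ(X, X.basicOpen P) _).1 (hc k)
  have hz : C.b.repr η k = 0 := (hreg Finset.univ).pow N (by
    simp only [smul_eq_mul, mul_zero]
    exact hN)
  rw [hz, zero_smul]

theorem amb_smul_gen_cancel {U : X.affineOpens} (i : Fin r) {g : Γ(X, U.1)} (hg : (D i).ideal U = Ideal.span {g})
    {m m' : Γ(amb Ω' D, U.1)} (h : g • m = g • m') : m = m' :=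
  (smul_gen_bijective (Ω' := Ω') i hg).1 h

end Groth.Agent.LogNCD2
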