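import Groth.Prelude.Def_LogNCD
import Groth.Agent.SymOmega.Sections
import Mathlib.RingTheory.Etale.Kaehler
import Mathlib.RingTheory.Flat.TorsionFree

/-!
Bases of differentials on the affine opens of an étale chart.
-/

universe u

open CategoryTheory CategoryTheory.Limits AlgebraicGeometry TopologicalSpace Opposite TensorProduct

noncomputable section

namespace Groth.Agent.LogNCD2

section Alg

variable {A C : Type u} [CommRing A] [CommRing C] [Algebra A C] {σ : Type u}

theorem exists_basis_of_etale (v : σ → C) (hv : (MvPolynomial.eval₂Hom (algebraMap A C) v).Etale) :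
    ∃ b : Module.Basis σ C Ω[C⁄A], (∀ k, b k = KaehlerDifferential.D A C (v k)) ∧ ∀ k, IsSMulRegular C (v k) := by
  let P := MvPolynomial σ A
  let _ : Algebra P C := (MvPolynomial.eval₂Hom (algebraMap A C) v).toAlgebra
  have : IsScalarTower A P C := IsScalarTower.of_algebraMap_eq fun a =>
    (MvPolynomial.eval₂Hom_C (algebraMap A C) v a).symm
  have : Algebra.Etale P C := hv
  have hX : ∀ k, algebraMap P C (MvPolynomial.X k) = v k := fun k =>
    MvPolynomial.eval₂Hom_X' (algebraMap A C) v k
  refine ⟨((KaehlerDifferential.mvPolynomialBasis A σ).baseChange C).map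
    (KaehlerDifferential.tensorKaehlerEquivOfFormallyEtale A P C), fun k => ?_, fun k => ?_⟩
  · rw [Module.Basis.map_apply, Module.Basis.baseChange_apply, KaehlerDifferential.mvPolynomialBasis_apply,
      ← KaehlerDifferential.tensorKaehlerEquivOfFormallyEtale_symm_D_algebraMap, LinearEquiv.apply_symm_apply, hX]
  · have h := Module.Flat.isSMulRegular_of_nonZeroDivisors (M := C)
      (IsRegular.mem_nonZeroDivisors (MvPolynomial.isRegular_X (R := A) (n := k)))
    intro a b hab
    refine h ?_
    show (MvPolynomial.X k : P) • a = (MvPolynomial.X k : P) • b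
    rw [Algebra.smul_def, Algebra.smul_def, hX]
    exact hab

end Alg

set_option backward.isDefEq.respectTransparency false
set_option backward.isDefEq.respectTransparency.types false

variable {X S : Scheme.{u}} {f : X ⟶ S} {n : Type u}

theorem etale_eval₂Hom (W : X.Opens) (v : n → Γ(W, ⊤)) (hv : Etale (AffineSpace.homOfVector (W.ι ≫ f) v))
    {V : S.Opens} (hV : IsAffineOpen V) (U : X.affineOpens) (h : U.1 ≤ W) (e : U.1 ≤ f ⁻¹ᵁ V) :
    (MvPolynomial.eval₂Hom (f.appLE V U.1 e).hom fun k => LogNCD.sectOn W h (v k)).Etale := by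
  let φ : Γ(S, V) ⟶ Γ(X, U.1) := f.appLE V U.1 e
  let s : n → Γ(X, U.1) := fun k => LogNCD.sectOn W h (v k)
  let q : Spec Γ(X, U.1) ⟶ (W : Scheme.{u}) := U.2.isoSpec.inv ≫ X.homOfLE h
  let ev : CommRingCat.of (MvPolynomial n Γ(S, V)) ⟶ Γ(X, U.1) :=
    CommRingCat.ofHom (MvPolynomial.eval₂Hom φ.hom s)
  have hq : ∀ k, q.appTop (v k) = (Scheme.ΓSpecIso Γ(X, U.1)).inv (s k) := fun k => by
    simp only [q, s, LogNCD.sectOn_apply, Scheme.Hom.comp_appTop, CommRingCat.comp_apply,
      IsAffineOpen.isoSpec_inv_appTop, Scheme.Opens.topIso_hom, Scheme.homOfLE_appTop]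
    simp only [← CommRingCat.comp_apply, Scheme.Opens.toScheme_presheaf_obj]
    rw [← Functor.map_comp, ← Functor.map_comp]
    rfl
  have he : q ≫ AffineSpace.homOfVector (W.ι ≫ f) v =
      Spec.map ev ≫ (AffineSpace.SpecIso n Γ(S, V)).inv ≫ AffineSpace.map n hV.fromSpec := by
    rw [AffineSpace.comp_homOfVector]
    apply AffineSpace.hom_ext
    · rw [AffineSpace.homOfVector_over, Category.assoc, Category.assoc, Category.assoc, AffineSpace.map_over,
        AffineSpace.SpecIso_inv_over_assoc, ← Spec.map_comp_assoc]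
      rw [show CommRingCat.ofHom MvPolynomial.C ≫ ev = φ from
        CommRingCat.hom_ext (RingHom.ext fun a => MvPolynomial.eval₂Hom_C φ.hom s a)]
      rw [hV.SpecMap_appLE_fromSpec f U.2 e, Scheme.homOfLE_ι_assoc, ← IsAffineOpen.isoSpec_inv_ι, Category.assoc]
    · intro k
      rw [AffineSpace.homOfVector_appTop_coord]
      refine (hq k).trans ?_
      rw [Scheme.Hom.comp_appTop, Scheme.Hom.comp_appTop,
        CommRingCat.comp_apply, CommRingCat.comp_apply, AffineSpace.map_appTop_coord,
        AffineSpace.SpecIso_inv_appTop_coord, ← CommRingCat.comp_apply, ← Scheme.ΓSpecIso_inv_naturality,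
        CommRingCat.comp_apply]
      exact congrArg _ (MvPolynomial.eval₂Hom_X' φ.hom s k).symm
  have : IsOpenImmersion (AffineSpace.map n hV.fromSpec) :=
    MorphismProperty.of_isPullback (P := @IsOpenImmersion) (AffineSpace.isPullback_map hV.fromSpec).flip
      inferInstance
  have h1 : Etale (Spec.map ev ≫ (AffineSpace.SpecIso n Γ(S, V)).inv ≫ AffineSpace.map n hV.fromSpec) := by
    rw [← he]
    infer_instance
  exact (HasRingHomProperty.Spec_iff (P := @Etale)).1
    (MorphismProperty.of_postcomp (W := @Etale) (W' := @Etale) (Spec.map ev) _ inferInstance h1)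

variable {Ω' : X.Modules} {d : OmegaSh.Der f Ω'}

/-- The differentials of the coordinates of an étale chart form a basis; the coordinates are regular. -/
theorem exists_basis_of_chart (hd : OmegaSh.IsUniversal d) (W : X.Opens) (v : n → Γ(W, ⊤))
    (hv : Etale (AffineSpace.homOfVector (W.ι ≫ f) v)) {V : S.Opens} (hV : IsAffineOpen V)
    (U : X.affineOpens) (h : U.1 ≤ W) (e : U.1 ≤ f ⁻¹ᵁ V) :
    ∃ b : Module.Basis n Γ(X, U.1) Γ(Ω', U.1), (∀ k, b k = d.app U.1 (LogNCD.sectOn W h (v k))) ∧
      ∀ k, IsSMulRegular Γ(X, U.1) (LogNCD.sectOn W h (v k)) := by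
  let _ := (f.appLE V U.1 e).hom.toAlgebra
  obtain ⟨l, hl⟩ := Groth.Agent.SymOmega.exists_linearEquiv_D hd U.2 hV e
  obtain ⟨b, hb, hr⟩ := exists_basis_of_etale (A := Γ(S, V)) (fun k => LogNCD.sectOn W h (v k))
    (etale_eval₂Hom W v hv hV U h e)
  exact ⟨b.map l.symm, fun k => by
    rw [Module.Basis.map_apply, hb, LinearEquiv.symm_apply_eq]; exact (hl _).symm, hr⟩

end Groth.Agent.LogNCD2
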