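import Groth.Agent.LogNCD2.Basic
import Mathlib.Topology.Sheaves.SheafCondition.Sites

/-!
The inclusion of log modules for a sub-family of components, and the residue sequences.
-/

universe u

open CategoryTheory CategoryTheory.Limits AlgebraicGeometry TopologicalSpace Opposite

namespace Groth.Agent.LogNCD2

set_option backward.isDefEq.respectTransparency false
set_option backward.isDefEq.respectTransparency.types false

variable {X S : Scheme.{u}} {f : X ⟶ S} {Ω' : X.Modules} {d : OmegaSh.Der f Ω'} {r : ℕ}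
  {D : Fin r → X.IdealSheafData}

theorem shortExact_res (hD : LogNCD.IsNCD D f) (Λ : LogNCD.LogMod d D) (h : Λ.ι ≫ Pi.lift Λ.res = 0) :
    (ShortComplex.mk Λ.ι (Pi.lift Λ.res) h).ShortExact := by
  have := Λ.mono
  have hcomp : ∀ (U : X.Opens) (x : Γ(Λ.L, U)) (i : Fin r),
      (Pi.π (fun j => ClSub.quotMod (D j)) i).app U ((Pi.lift Λ.res).app U x) = (Λ.res i).app U x :=
    fun U x i => congr(($(Pi.lift_π Λ.res i)).app U x)
  refine { exact := exact_of_isBasis _ _ h (isBasis_good hD) ?_, mono_f := Λ.mono, epi_g := ?_ }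
  · rintro _ ⟨U, rfl, hU⟩ x hx
    choose g hg using hU
    obtain ⟨L⟩ := nonempty_dl Λ hg
    exact exists_ι_eq L hg fun i => by rw [← hcomp, hx, map_zero]
  · refine epi_of_surjective_isBasis _ (isBasis_good hD) ?_
    rintro _ ⟨U, rfl, hU⟩ q
    choose g hg using hU
    obtain ⟨L⟩ := nonempty_dl Λ hg
    choose a ha using fun i => exists_smul_oneOn (D i) U ((Pi.π (fun j => ClSub.quotMod (D j)) i).app U.1 q)
    refine ⟨∑ i, a i • L.dl i, sub_eq_zero.1 (pi_eq_zero _ _ _ fun i => ?_)⟩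
    rw [map_sub, hcomp, sub_eq_zero, res_eq L (ω := 0) (a := a) (by rw [map_zero, zero_add]) i, ha]

variable {r' : ℕ} {e : Fin r' → Fin r} {Λ : LogNCD.LogMod d D} {Λ' : LogNCD.LogMod d (D ∘ e)}

/-- `y` is the image of `x` in the larger log module. -/
def Rel (Λ' : LogNCD.LogMod d (D ∘ e)) (Λ : LogNCD.LogMod d D) (U : X.Opens)
    (x : Γ(Λ'.L, U)) (y : Γ(Λ.L, U)) : Prop :=
  ∀ (b : Γ(X, U)) (ω : Γ(Ω', U)), b • x = Λ'.ι.app U ω → b • y = Λ.ι.app U ω

variable {U : X.affineOpens} {g : Fin r → Γ(X, U.1)}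

theorem eq_zero_of_sub (he : Function.Injective e) (hg : ∀ i, (D i).ideal U = Ideal.span {g i})
    {x : Γ(Λ.L, U.1)} (hx : (∏ j, g (e j)) • x = 0) : x = 0 := by
  refine torsion Λ hg ?_
  classical
  rw [← Finset.prod_mul_prod_compl (Finset.univ.image e) g, Finset.prod_image fun a _ b _ h => he h,
    mul_comm, mul_smul, hx, smul_zero]

theorem exists_smul_eq (L : DL Λ U g) (L' : DL Λ' U (g ∘ e)) {x : Γ(Λ'.L, U.1)} {ω : Γ(Ω', U.1)} {a : Fin r' → Γ(X, U.1)}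
    (hx : x = Λ'.ι.app U.1 ω + ∑ j, a j • L'.dl j) :
    ∃ ω₀, (∏ j, g (e j)) • x = Λ'.ι.app U.1 ω₀ ∧
      (∏ j, g (e j)) • (Λ.ι.app U.1 ω + ∑ j, a j • L.dl (e j)) = Λ.ι.app U.1 ω₀ := by
  classical
  refine ⟨(∏ j, g (e j)) • ω + ∑ j, (a j * ∏ k ∈ Finset.univ.erase j, g (e k)) • d.app U.1 (g (e j)), ?_, ?_⟩
  · rw [hx, smul_add, map_add, map_sum, Finset.smul_sum, Scheme.Modules.Hom.app_smul]
    congr 1
    refine Finset.sum_congr rfl fun j _ => ?_
    rw [Scheme.Modules.Hom.app_smul, ← Finset.mul_prod_erase _ _ (Finset.mem_univ j),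
      show Λ'.ι.app U.1 (d.app U.1 (g (e j))) = g (e j) • L'.dl j from (L'.smul_dl j).symm,
      smul_smul, smul_smul]
    congr 1
    ring
  · rw [smul_add, map_add, map_sum, Finset.smul_sum, Scheme.Modules.Hom.app_smul]
    congr 1
    refine Finset.sum_congr rfl fun j _ => ?_
    rw [Scheme.Modules.Hom.app_smul, ← Finset.mul_prod_erase _ _ (Finset.mem_univ j), ← L.smul_dl,
      smul_smul, smul_smul]
    congr 1
    ring

theorem exists_rel (he : Function.Injective e) (hg : ∀ i, (D i).ideal U = Ideal.span {g i})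
    (x : Γ(Λ'.L, U.1)) : ∃ y, Rel Λ' Λ U.1 x y := by
  obtain ⟨L⟩ := nonempty_dl Λ hg
  obtain ⟨L'⟩ := nonempty_dl Λ' (g := g ∘ e) fun j => hg (e j)
  obtain ⟨ω, a, hx⟩ := L'.exists_eq x
  obtain ⟨ω₀, h1, h2⟩ := exists_smul_eq L L' hx
  refine ⟨Λ.ι.app U.1 ω + ∑ j, a j • L.dl (e j), fun b η hb => sub_eq_zero.1 (eq_zero_of_sub he hg ?_)⟩
  have h3 : b • ω₀ = (∏ j, g (e j)) • η := by
    refine ι_injective Λ' U.1 ?_
    rw [Scheme.Modules.Hom.app_smul, Scheme.Modules.Hom.app_smul, ← h1, ← hb, smul_comm]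
  rw [smul_sub, smul_comm, h2, ← Scheme.Modules.Hom.app_smul, h3, Scheme.Modules.Hom.app_smul, sub_self]

theorem rel_unique (he : Function.Injective e) (hg : ∀ i, (D i).ideal U = Ideal.span {g i})
    (L : DL Λ U g) {x : Γ(Λ'.L, U.1)} {y y' : Γ(Λ.L, U.1)} (hy : Rel Λ' Λ U.1 x y) (hy' : Rel Λ' Λ U.1 x y') :
    y = y' := by
  obtain ⟨L'⟩ := nonempty_dl Λ' (g := g ∘ e) fun j => hg (e j)
  obtain ⟨ω, a, hx⟩ := L'.exists_eq x
  obtain ⟨ω₀, h1, -⟩ := exists_smul_eq L L' hx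
  refine sub_eq_zero.1 (eq_zero_of_sub he hg ?_)
  rw [smul_sub, hy _ _ h1, hy' _ _ h1, sub_self]

/-- Morphisms from their values on a basis of affine opens. -/
theorem exists_hom_of_basis {F G : X.Modules} {B : Type u} (V : B → X.Opens)
    (hB : Opens.IsBasis (Set.range V)) (app : ∀ b, Γ(F, V b) →+ Γ(G, V b))
    (hsmul : ∀ b (t : Γ(X, V b)) (x : Γ(F, V b)), app b (t • x) = t • app b x)
    (hres : ∀ (b c : B) (h : V c ≤ V b) (x : Γ(F, V b)),
      app c (F.presheaf.map (homOfLE h).op x) = G.presheaf.map (homOfLE h).op (app b x)) :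
    ∃ φ : F ⟶ G, ∀ b (x : Γ(F, V b)), φ.app (V b) x = app b x := by
  let α : (inducedFunctor V).op ⋙ F.presheaf ⟶ (inducedFunctor V).op ⋙ G.presheaf :=
    { app := fun b => AddCommGrpCat.ofHom (app b.unop)
      naturality := fun b c g => by
        ext x
        exact hres b.unop c.unop (leOfHom ((inducedFunctor V).map g.unop)) x }
  let ψ : F.presheaf ⟶ G.presheaf := TopCat.Sheaf.restrictHomEquivHom F.presheaf ⟨G.presheaf, G.isSheaf⟩ hB α
  have hψ : ∀ b (x : Γ(F, V b)), ψ.app (op (V b)) x = app b x := fun b x =>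
    congr($(TopCat.Sheaf.extend_hom_app F.presheaf ⟨G.presheaf, G.isSheaf⟩ hB α b) x)
  refine ⟨⟨PresheafOfModules.homMk ψ fun W t x => ?_⟩, fun b x => hψ b x⟩
  obtain ⟨W⟩ := W
  change ψ.app (op W) ((show Γ(X, W) from t) • (show Γ(F, W) from x)) =
    (show Γ(X, W) from t) • (show Γ(G, W) from ψ.app (op W) x)
  refine TopCat.Sheaf.eq_of_locally_eq' (C := Ab.{u}) ⟨G.presheaf, G.isSheaf⟩
    (fun b : {b : B // V b ≤ W} => V b.1) W (fun b => homOfLE b.2) ?_ _ _ fun b => ?_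
  · intro y hy
    obtain ⟨_, ⟨b, rfl⟩, hyV, hVW⟩ := Opens.isBasis_iff_nbhd.1 hB hy
    exact Opens.mem_iSup.2 ⟨⟨b, hVW⟩, hyV⟩
  · refine ((congr($(ψ.naturality (homOfLE b.2).op) _)).symm.trans ?_).trans
      (Scheme.Modules.map_smul G (homOfLE b.2) _ _).symm
    refine ((hψ b.1 _).trans ((congrArg (app b.1) (Scheme.Modules.map_smul F (homOfLE b.2) _ _)).trans ?_))
    refine (hsmul _ _ _).trans (congrArg _ ?_)
    exact ((hψ b.1 _).symm.trans (congr($(ψ.naturality (homOfLE b.2).op) x)))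

theorem exists_isSubLog (hD : LogNCD.IsNCD D f) (he : Function.Injective e) :
    ∃ κ : Λ'.L ⟶ Λ.L, LogNCD.IsSubLog Λ' Λ κ := by
  let B := {U : X.affineOpens // Good D U}
  let V : B → X.Opens := fun U => U.1.1
  have hB : Opens.IsBasis (Set.range V) := by
    have : Set.range V = {W : X.Opens | ∃ U : X.affineOpens, U.1 = W ∧ Good D U} :=
      Set.ext fun W => ⟨fun ⟨U, h⟩ => ⟨U.1, h, U.2⟩, fun ⟨U, h, hU⟩ => ⟨⟨U, hU⟩, h⟩⟩
    rw [this]
    exact isBasis_good hD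
  choose g hg using fun U : B => U.2
  choose y hy using fun (U : B) (x : Γ(Λ'.L, V U)) => exists_rel (Λ := Λ) he (hg U) x
  let L := fun U : B => (nonempty_dl Λ (hg U)).some
  let app : ∀ U : B, Γ(Λ'.L, V U) →+ Γ(Λ.L, V U) := fun U => AddMonoidHom.mk' (y U) fun x x' => by
    obtain ⟨L'⟩ := nonempty_dl Λ' (g := g U ∘ e) fun j => hg U (e j)
    obtain ⟨ω, a, hx⟩ := L'.exists_eq x
    obtain ⟨ω', a', hx'⟩ := L'.exists_eq x'
    obtain ⟨ω₀, h1, -⟩ := exists_smul_eq (L U) L' hx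
    obtain ⟨ω₁, h1', -⟩ := exists_smul_eq (L U) L' hx'
    refine sub_eq_zero.1 (eq_zero_of_sub he (hg U) ?_)
    rw [smul_sub, smul_add, hy U x _ _ h1, hy U x' _ _ h1', ← map_add,
      hy U (x + x') _ (ω₀ + ω₁) (by rw [smul_add, h1, h1', map_add]), sub_self]
  have hsmul : ∀ U (t : Γ(X, V U)) (x : Γ(Λ'.L, V U)), app U (t • x) = t • app U x := fun U t x => by
    exact rel_unique he (hg U) (L U) (hy U (t • x))
      (fun b ω hb => by rw [smul_smul]; exact hy U x (b * t) ω (by rw [mul_smul]; exact hb))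
  have hres : ∀ (U W : B) (h : V W ≤ V U) (x : Γ(Λ'.L, V U)),
      app W (Λ'.L.presheaf.map (homOfLE h).op x) = Λ.L.presheaf.map (homOfLE h).op (app U x) := fun U W h x => by
    obtain ⟨L'⟩ := nonempty_dl Λ' (g := g U ∘ e) fun j => hg U (e j)
    obtain ⟨ω, a, hx⟩ := L'.exists_eq x
    obtain ⟨ω₀, h1, -⟩ := exists_smul_eq (L U) L' hx
    refine sub_eq_zero.1 (eq_zero_of_sub (U := W.1)
      (g := fun i => X.presheaf.map (homOfLE h).op (g U i)) he (fun i => span_res h (hg U i)) ?_)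
    rw [← map_prod]
    have h1r : (X.presheaf.map (homOfLE h).op (∏ j, g U (e j))) • Λ'.L.presheaf.map (homOfLE h).op x =
        Λ'.ι.app (V W) (Ω'.presheaf.map (homOfLE h).op ω₀) := by
      rw [← Scheme.Modules.map_smul Λ'.L (homOfLE h), h1, ← QCoh.map_app_comm]
    rw [smul_sub]
    refine sub_eq_zero.2 ((hy W _ _ _ h1r).trans ?_)
    show _ = (X.presheaf.map (homOfLE h).op (∏ j, g U (e j))) • Λ.L.presheaf.map (homOfLE h).op (y U x)
    rw [← Scheme.Modules.map_smul Λ.L (homOfLE h), hy U x _ _ h1, ← QCoh.map_app_comm]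
  obtain ⟨κ, hκ⟩ := exists_hom_of_basis V hB app hsmul hres
  refine ⟨κ, sub_eq_zero.1 (hom_eq_zero_of_isBasis _ hB ?_)⟩
  rintro _ ⟨U, rfl⟩ ω
  rw [Scheme.Modules.Hom.sub_app]
  refine sub_eq_zero.2 ((hκ U _).trans ?_)
  exact (one_smul _ _).symm.trans (hy U (Λ'.ι.app (V U) ω) 1 ω (one_smul _ _))

theorem rel_of_isSubLog {κ : Λ'.L ⟶ Λ.L} (hκ : LogNCD.IsSubLog Λ' Λ κ) (W : X.Opens) (x : Γ(Λ'.L, W)) :
    Rel Λ' Λ W x (κ.app W x) := fun b ω hb => by
  rw [← Scheme.Modules.Hom.app_smul, hb]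
  exact congr(($hκ).app W ω)

theorem shortExact_succAbove {D : Fin (r + 1) → X.IdealSheafData} (hD : LogNCD.IsNCD D f) (i : Fin (r + 1))
    {Λ : LogNCD.LogMod d D} {Λ' : LogNCD.LogMod d (D ∘ i.succAbove)} {κ : Λ'.L ⟶ Λ.L}
    (hκ : LogNCD.IsSubLog Λ' Λ κ) (h : κ ≫ Λ.res i = 0) :
    (ShortComplex.mk κ (Λ.res i) h).ShortExact := by
  have he : Function.Injective i.succAbove := Fin.succAbove_right_injective
  have hι : ∀ (W : X.Opens) (ω : Γ(Ω', W)), κ.app W (Λ'.ι.app W ω) = Λ.ι.app W ω :=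
    fun W ω => congr(($hκ).app W ω)
  have : Mono κ := by
    refine QCoh.mono_of_isBasis κ (isBasis_good hD) ?_
    rintro _ ⟨U, rfl, hU⟩
    choose g hg using hU
    refine (injective_iff_map_eq_zero _).2 fun x hx => ?_
    obtain ⟨L⟩ := nonempty_dl Λ hg
    obtain ⟨L'⟩ := nonempty_dl Λ' (g := g ∘ i.succAbove) fun j => hg _
    obtain ⟨ω, a, hx'⟩ := L'.exists_eq x
    obtain ⟨ω₀, h1, -⟩ := exists_smul_eq L L' hx'
    refine torsion Λ' (g := g ∘ i.succAbove) (fun j => hg _) ?_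
    show (∏ j, g (i.succAbove j)) • x = 0
    have h2 : ω₀ = 0 := by
      refine ι_injective Λ U.1 ?_
      rw [map_zero, ← hι, ← h1, Scheme.Modules.Hom.app_smul, hx, smul_zero]
    rw [h1, h2, map_zero]
  refine { exact := exact_of_isBasis _ _ h (isBasis_good hD) ?_, mono_f := this, epi_g := ?_ }
  · rintro _ ⟨U, rfl, hU⟩ x hx
    choose g hg using hU
    obtain ⟨L⟩ := nonempty_dl Λ hg
    obtain ⟨L'⟩ := nonempty_dl Λ' (g := g ∘ i.succAbove) fun j => hg _
    obtain ⟨ω, a, hxe⟩ := L.exists_eq x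
    obtain ⟨c, hc⟩ := exists_eq_of_res_eq_zero L hg i hxe hx
    have hdl : ∀ j, κ.app U.1 (L'.dl j) = L.dl (i.succAbove j) := fun j => by
      refine sub_eq_zero.1 (torsion Λ hg ?_)
      rw [← Finset.mul_prod_erase _ _ (Finset.mem_univ (i.succAbove j)), mul_comm, mul_smul, smul_sub,
        ← Scheme.Modules.Hom.app_smul, L.smul_dl]
      erw [L'.smul_dl j]
      rw [hι, Function.comp_apply, sub_self, smul_zero]
    refine ⟨Λ'.ι.app U.1 (ω + c • d.app U.1 (g i)) + ∑ j, a (i.succAbove j) • L'.dl j, ?_⟩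
    rw [map_add, hι, map_sum, hxe, Fin.sum_univ_succAbove _ i, map_add, Scheme.Modules.Hom.app_smul,
      ← L.smul_dl, smul_smul, hc, add_assoc]
    congr 2
    exact Finset.sum_congr rfl fun j _ => by rw [Scheme.Modules.Hom.app_smul, hdl]
  · refine epi_of_surjective_isBasis _ (isBasis_good hD) ?_
    rintro _ ⟨U, rfl, hU⟩ q
    choose g hg using hU
    obtain ⟨L⟩ := nonempty_dl Λ hg
    obtain ⟨a, ha⟩ := exists_smul_oneOn (D i) U q
    exact ⟨a • L.dl i, by rw [Scheme.Modules.Hom.app_smul, L.res_self, ha]⟩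

end Groth.Agent.LogNCD2
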