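import Groth.Agent.LogNCD2.Ambient
import Groth.Agent.LogNCD2.Sub

/-!
The sheaf of differentials with logarithmic poles exists.
-/

universe u

open CategoryTheory CategoryTheory.Limits AlgebraicGeometry TopologicalSpace Opposite

noncomputable section

namespace Groth.Agent.LogNCD2

set_option backward.isDefEq.respectTransparency false
set_option backward.isDefEq.respectTransparency.types false

variable {X S : Scheme.{u}} {f : X ⟶ S} {Ω' : X.Modules} {d : OmegaSh.Der f Ω'} {r : ℕ}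
  {D : Fin r → X.IdealSheafData}

theorem res_res' {M : X.Modules} {U V W : X.Opens} (h : V ≤ U) (h' : W ≤ V) (m : Γ(M, U)) :
    M.presheaf.map (homOfLE h').op (M.presheaf.map (homOfLE h).op m) =
      M.presheaf.map (homOfLE (h'.trans h)).op m := by
  rw [← ConcreteCategory.comp_apply, ← M.presheaf.map_comp]
  rfl

/-- Generators of all components on an affine open. -/
def IsGen (D : Fin r → X.IdealSheafData) (U : X.affineOpens) (g : Fin r → Γ(X, U.1)) : Prop :=
  ∀ i, (D i).ideal U = Ideal.span {g i}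

theorem IsGen.res {U V : X.affineOpens} {g : Fin r → Γ(X, U.1)} (hg : IsGen D U g) (h : V.1 ≤ U.1) :
    IsGen D V fun i => X.presheaf.map (homOfLE h).op (g i) := fun i => span_res h (hg i)

variable (d) in
/-- `m` is the logarithmic differential of `g` among forms with poles. -/
def IsDl {U : X.Opens} (g : Γ(X, U)) (m : Γ(amb Ω' D, U)) : Prop :=
  g • m = (eta Ω' D).app U (d.app U g)

theorem IsDl.res {U V : X.Opens} {g : Γ(X, U)} {m : Γ(amb Ω' D, U)} (hm : IsDl d g m) (h : V ≤ U) :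
    IsDl d (X.presheaf.map (homOfLE h).op g) ((amb Ω' D).presheaf.map (homOfLE h).op m) := by
  rw [IsDl, ← Scheme.Modules.map_smul, hm, ← QCoh.map_app_comm, res_d]

variable (d) in
/-- A decomposition of a form with poles by logarithmic differentials. -/
def Dec (U : X.affineOpens) (g : Fin r → Γ(X, U.1)) (s : Γ(amb Ω' D, U.1)) (a : Fin r → Γ(X, U.1)) : Prop :=
  ∃ (ω : Γ(Ω', U.1)) (m : Fin r → Γ(amb Ω' D, U.1)), (∀ i, IsDl d (g i) (m i)) ∧
    s = (eta Ω' D).app U.1 ω + ∑ i, a i • m i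

theorem exists_isDl {U : X.affineOpens} {g : Fin r → Γ(X, U.1)} (hg : IsGen D U g) :
    ∃ m : Fin r → Γ(amb Ω' D, U.1), ∀ i, IsDl d (g i) (m i) := by
  choose m hm using fun i => (smul_gen_bijective (Ω' := Ω') i (hg i)).2 ((eta Ω' D).app U.1 (d.app U.1 (g i)))
  exact ⟨m, hm⟩

theorem Dec.res {U V : X.affineOpens} {g : Fin r → Γ(X, U.1)} {s : Γ(amb Ω' D, U.1)} {a : Fin r → Γ(X, U.1)}
    (hs : Dec d U g s a) (h : V.1 ≤ U.1) :
    Dec d V (fun i => X.presheaf.map (homOfLE h).op (g i)) ((amb Ω' D).presheaf.map (homOfLE h).op s)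
      fun i => X.presheaf.map (homOfLE h).op (a i) := by
  obtain ⟨ω, m, hm, rfl⟩ := hs
  refine ⟨Ω'.presheaf.map (homOfLE h).op ω, fun i => (amb Ω' D).presheaf.map (homOfLE h).op (m i),
    fun i => (hm i).res h, ?_⟩
  rw [map_add, map_sum, ← QCoh.map_app_comm]
  congr 1
  exact Finset.sum_congr rfl fun i _ => Scheme.Modules.map_smul _ _ _ _

theorem Dec.change {U : X.affineOpens} {g g' : Fin r → Γ(X, U.1)} (hg : IsGen D U g) (hg' : IsGen D U g')
    {s : Γ(amb Ω' D, U.1)} {a : Fin r → Γ(X, U.1)} (hs : Dec d U g s a) : Dec d U g' s a := by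
  obtain ⟨ω, m, hm, rfl⟩ := hs
  obtain ⟨m', hm'⟩ := exists_isDl (d := d) hg'
  choose c hc using fun i => Ideal.mem_span_singleton'.1 ((hg i).symm.trans (hg' i) ▸ Ideal.mem_span_singleton_self (g i) : g i ∈ Ideal.span {g' i})
  choose c' hc' using fun i => Ideal.mem_span_singleton'.1 ((hg' i).symm.trans (hg i) ▸ Ideal.mem_span_singleton_self (g' i) : g' i ∈ Ideal.span {g i})
  have key : ∀ i, m i = m' i + (eta Ω' D).app U.1 (c' i • d.app U.1 (c i)) := fun i => by
    refine amb_smul_gen_cancel (Ω' := Ω') i (hg i) ?_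
    rw [hm i, smul_add, ← Scheme.Modules.Hom.app_smul, smul_smul (g i) (c' i),
      show g i * c' i = g' i by rw [mul_comm, hc']]
    conv_lhs => rw [← hc i]
    rw [Groth.Agent.Synt29.OmegaStalk.app_mul, map_add, Scheme.Modules.Hom.app_smul, ← hm' i, smul_smul, hc i]
  refine ⟨ω + ∑ i, a i • (c' i • d.app U.1 (c i)), m', hm', ?_⟩
  rw [map_add, map_sum, add_assoc]
  congr 1
  rw [← Finset.sum_add_distrib]
  refine Finset.sum_congr rfl fun i _ => ?_
  rw [key i, smul_add, add_comm]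
  simp only [Scheme.Modules.Hom.app_smul]

theorem Dec.add {U : X.affineOpens} {g : Fin r → Γ(X, U.1)} (hg : IsGen D U g) {s s' : Γ(amb Ω' D, U.1)}
    {a a' : Fin r → Γ(X, U.1)} (hs : Dec d U g s a) (hs' : Dec d U g s' a') :
    Dec d U g (s + s') (a + a') := by
  obtain ⟨ω, m, hm, rfl⟩ := hs
  obtain ⟨ω', m', hm', rfl⟩ := hs'
  obtain rfl : m' = m := funext fun i => amb_smul_gen_cancel (Ω' := Ω') i (hg i) ((hm' i).trans (hm i).symm)
  refine ⟨ω + ω', m', hm, ?_⟩
  rw [map_add]
  simp only [Pi.add_apply, add_smul, Finset.sum_add_distrib]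
  abel

theorem Dec.smul {U : X.affineOpens} {g : Fin r → Γ(X, U.1)} {s : Γ(amb Ω' D, U.1)} {a : Fin r → Γ(X, U.1)}
    (hs : Dec d U g s a) (t : Γ(X, U.1)) : Dec d U g (t • s) (t • a) := by
  obtain ⟨ω, m, hm, rfl⟩ := hs
  refine ⟨t • ω, m, hm, ?_⟩
  rw [smul_add, Scheme.Modules.Hom.app_smul, Finset.smul_sum]
  simp [smul_smul]

theorem dec_eta {U : X.affineOpens} {g : Fin r → Γ(X, U.1)} (hg : IsGen D U g) (ω : Γ(Ω', U.1)) :
    Dec d U g ((eta Ω' D).app U.1 ω) 0 := by
  obtain ⟨m, hm⟩ := exists_isDl (d := d) hg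
  exact ⟨ω, m, hm, by simp⟩

theorem res_one (I : X.IdealSheafData) {U V : X.Opens} (h : V ≤ U) (a : Γ(X, U)) :
    (ClSub.quotMod I).presheaf.map (homOfLE h).op (a • (LogNCD.oneOn I U : Γ(ClSub.quotMod I, U))) =
      X.presheaf.map (homOfLE h).op a • (LogNCD.oneOn I V : Γ(ClSub.quotMod I, V)) := by
  rw [Scheme.Modules.map_smul]
  congr 1
  refine (QCoh.map_app_comm (ClSub.toSubscheme I) (homOfLE h) _).symm.trans ?_
  exact congrArg _ (map_one (X.presheaf.map (homOfLE h).op).hom)

variable (hd : OmegaSh.IsUniversal d) (hD : LogNCD.IsNCD D f)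

include hd hD in
/-- The coefficients of the logarithmic differentials are well defined on the components. -/
theorem dec_zero {U : X.affineOpens} {g : Fin r → Γ(X, U.1)} (hg : IsGen D U g) {a : Fin r → Γ(X, U.1)}
    (hs : Dec d U g (0 : Γ(amb Ω' D, U.1)) a) (i : Fin r) :
    (a i • (LogNCD.oneOn (D i) U.1 : Γ(ClSub.quotMod (D i), U.1))) = 0 := by
  classical
  refine QCoh.eq_zero_of_locally (M := ClSub.quotMod (D i)) U.1 _ fun x hx => ?_
  by_cases hxD : x ∈ offD D
  · obtain ⟨_, ⟨V, hV, rfl⟩, hxV, hVle⟩ :=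
      X.isBasis_affineOpens.exists_subset_of_mem_open (show x ∈ U.1 ⊓ offD D from ⟨hx, hxD⟩) (U.1 ⊓ offD D).2
    refine ⟨V, homOfLE fun y hy => (hVle hy).1, hxV, ?_⟩
    rw [res_one]
    refine (smul_oneOn_eq_zero_iff (D i) ⟨V, hV⟩ _).2 ?_
    rw [ideal_eq_top (U := ⟨V, hV⟩) fun y hy hyi => (hVle hy).2 (Set.mem_iUnion.2 ⟨i, hyi⟩)]
    exact Submodule.mem_top
  obtain ⟨V, hxV, hVU, ⟨C⟩⟩ := exists_chartOn hd hD hx hxD
  refine ⟨V.1, homOfLE hVU, hxV, ?_⟩
  rw [res_one, smul_oneOn_eq_zero_iff, C.gen i, Ideal.mem_span_singleton']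
  let := C.fin
  obtain ⟨ω, m, hm, h0⟩ := (hs.res hVU).change (hg.res hVU) C.gen
  rw [map_zero] at h0
  set a' : Fin r → Γ(X, V.1) := fun i => X.presheaf.map (homOfLE hVU).op (a i)
  cases hi : C.idx i with
  | none => exact ⟨a' i, by rw [C.idx_none i hi, mul_one]⟩
  | some k =>
    refine ⟨- C.b.repr ω k, ?_⟩
    let P := ∏ j, C.g j
    let Q := fun j => ∏ l ∈ Finset.univ.erase j, C.g l
    have hz : P • ω + ∑ j, (a' j * Q j) • d.app V.1 (C.g j) = 0 := by
      refine eta_injective hd hD V.1 ?_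
      rw [map_zero, map_add, map_sum, Scheme.Modules.Hom.app_smul, ← smul_zero (A := Γ(amb Ω' D, V.1)) P, h0,
        smul_add, Finset.smul_sum]
      congr 1
      refine Finset.sum_congr rfl fun j _ => ?_
      rw [Scheme.Modules.Hom.app_smul, ← hm j, smul_smul, smul_smul]
      congr 1
      show a' j * Q j * C.g j = P * a' j
      rw [mul_assoc, mul_comm (Q j), Finset.mul_prod_erase _ _ (Finset.mem_univ j), mul_comm]
    have hk := congrArg (fun z => C.b.repr z k) hz
    simp only [map_add, map_smul, map_sum, map_zero, Finsupp.add_apply, Finsupp.smul_apply, Finsupp.zero_apply,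
      Finsupp.finsetSum_apply, smul_eq_mul] at hk
    rw [Finset.sum_eq_single i] at hk
    · rw [← C.idx_some i k hi, C.b.repr_self, Finsupp.single_eq_same, mul_one] at hk
      have hP : P = C.g i * Q i := (Finset.mul_prod_erase _ _ (Finset.mem_univ i)).symm
      have hreg : IsSMulRegular Γ(X, V.1) (Q i) := by
        have : ∀ s : Finset (Fin r), IsSMulRegular Γ(X, V.1) (∏ j ∈ s, C.g j) := fun s => by
          induction s using Finset.induction_on with
          | empty => simp
          | @insert j s hj ih => rw [Finset.prod_insert hj]; exact (C.reg j).mul ih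
        exact this _
      refine hreg ?_
      show Q i * (- C.b.repr ω k * C.g i) = Q i * a' i
      rw [hP] at hk
      linear_combination (-1 : Γ(X, V.1)) * hk
    · intro j _ hj
      cases hjk : C.idx j with
      | none =>
        rw [C.idx_none j hjk, show d.app V.1 1 = 0 from d.d_one _]
        simp
      | some k' =>
        rw [← C.idx_some j k' hjk, C.b.repr_self, Finsupp.single_eq_of_ne, mul_zero]
        rintro rfl
        exact hj (C.idx_inj j i _ hjk hi)
    · exact fun h => absurd (Finset.mem_univ i) h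

include hd hD in
theorem dec_unique {U : X.affineOpens} {g g' : Fin r → Γ(X, U.1)} (hg : IsGen D U g) (hg' : IsGen D U g')
    {s : Γ(amb Ω' D, U.1)} {a a' : Fin r → Γ(X, U.1)} (hs : Dec d U g s a) (hs' : Dec d U g' s a') (i : Fin r) :
    (a i • (LogNCD.oneOn (D i) U.1 : Γ(ClSub.quotMod (D i), U.1))) = a' i • LogNCD.oneOn (D i) U.1 := by
  have h := (hs.add hg (((hs'.change hg' hg)).smul (-1)))
  rw [neg_one_smul, add_neg_cancel] at h
  have h0 := dec_zero hd hD hg h i
  simp only [Pi.add_apply, Pi.neg_apply, add_smul, neg_smul, one_smul] at h0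
  exact add_neg_eq_zero.1 h0

variable (d D) in
/-- Being locally a combination of forms and logarithmic differentials. -/
def IsLogForm (U : X.Opens) (s : Γ(amb Ω' D, U)) : Prop :=
  ∀ x ∈ U, ∃ (V : X.affineOpens) (h : V.1 ≤ U) (g a : Fin r → Γ(X, V.1)), x ∈ V.1 ∧ IsGen D V g ∧
    Dec d V g ((amb Ω' D).presheaf.map (homOfLE h).op s) a

include hD in
theorem isLogForm_eta (U : X.Opens) (ω : Γ(Ω', U)) : IsLogForm d D U ((eta Ω' D).app U ω) := fun x hx => by
  obtain ⟨V, hxV, hVU, hV⟩ := exists_good hD hx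
  choose g hg using hV
  exact ⟨V, hVU, g, 0, hxV, hg, by rw [← QCoh.map_app_comm]; exact dec_eta hg _⟩

variable (d) in
/-- The submodule of forms with logarithmic poles. -/
def logSub : QCoh.SubMod (amb Ω' D) where
  mem U :=
    { carrier := {s | IsLogForm d D U s}
      add_mem' := fun {s s'} hs hs' x hx => by
        obtain ⟨V, hV, g, a, hxV, hg, hd'⟩ := hs x hx
        obtain ⟨V', hV', g', a', hxV', hg', hd''⟩ := hs' x hx
        obtain ⟨_, ⟨W, hW, rfl⟩, hxW, hWle⟩ :=
          X.isBasis_affineOpens.exists_subset_of_mem_open (show x ∈ V.1 ⊓ V'.1 from ⟨hxV, hxV'⟩) (V.1 ⊓ V'.1).2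
        have h1 : W ≤ V.1 := fun y hy => (hWle hy).1
        have h2 : W ≤ V'.1 := fun y hy => (hWle hy).2
        refine ⟨⟨W, hW⟩, h1.trans hV, _,
          (fun i => X.presheaf.map (homOfLE h1).op (a i)) + fun i => X.presheaf.map (homOfLE h2).op (a' i),
          hxW, hg.res (V := ⟨W, hW⟩) h1, ?_⟩
        have e1 := hd'.res (V := ⟨W, hW⟩) h1
        have e2 := (hd''.res (V := ⟨W, hW⟩) h2).change (hg'.res (V := ⟨W, hW⟩) h2) (hg.res (V := ⟨W, hW⟩) h1)
        rw [res_res'] at e1 e2
        rw [map_add]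
        exact e1.add (hg.res (V := ⟨W, hW⟩) h1) e2
      zero_mem' := fun x hx => by
        obtain ⟨_, ⟨V, hV, rfl⟩, hxV, hVle⟩ := X.isBasis_affineOpens.exists_subset_of_mem_open hx U.2
        by_cases hxD : x ∈ offD D
        · obtain ⟨_, ⟨W, hW, rfl⟩, hxW, hWle⟩ :=
            X.isBasis_affineOpens.exists_subset_of_mem_open (show x ∈ V ⊓ offD D from ⟨hxV, hxD⟩) (V ⊓ offD D).2
          refine ⟨⟨W, hW⟩, fun y hy => hVle (hWle hy).1, fun _ => 1, 0, hxW, fun i =>
            (ideal_eq_top (U := ⟨W, hW⟩) fun y hy hyi => (hWle hy).2 (Set.mem_iUnion.2 ⟨i, hyi⟩)).trans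
              Ideal.span_singleton_one.symm, ⟨0, 0, fun i => ?_, by simp⟩⟩
          rw [IsDl, show d.app W 1 = 0 from d.d_one _, map_zero, Pi.zero_apply, smul_zero]
        · obtain ⟨W, hxW, hWV, ⟨C⟩⟩ := exists_chartOn hd hD hxV hxD
          refine ⟨W, hWV.trans hVle, C.g, 0, hxW, C.gen, ?_⟩
          rw [map_zero]
          simpa using dec_eta (d := d) (U := W) C.gen 0
      smul_mem' := fun t s hs x hx => by
        obtain ⟨V, hV, g, a, hxV, hg, hd'⟩ := hs x hx
        exact ⟨V, hV, g, _, hxV, hg, by rw [Scheme.Modules.map_smul]; exact hd'.smul _⟩ }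
  map_mem {U V} i s hs := fun x hx => by
    obtain ⟨W, hW, g, a, hxW, hg, hd'⟩ := hs x (i hx)
    obtain ⟨_, ⟨W', hW', rfl⟩, hxW', hWle⟩ :=
      X.isBasis_affineOpens.exists_subset_of_mem_open (show x ∈ W.1 ⊓ V from ⟨hxW, hx⟩) (W.1 ⊓ V).2
    have h1 : W' ≤ W.1 := fun y hy => (hWle hy).1
    refine ⟨⟨W', hW'⟩, fun y hy => (hWle hy).2, _, fun i => X.presheaf.map (homOfLE h1).op (a i), hxW',
      hg.res (V := ⟨W', hW'⟩) h1, ?_⟩
    have e1 := hd'.res (V := ⟨W', hW'⟩) h1
    rw [res_res'] at e1 ⊢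
    exact e1
  of_locally U s h := fun x hx => by
    obtain ⟨V, i, hxV, hs⟩ := h x hx
    obtain ⟨W, hW, g, a, hxW, hg, hd'⟩ := hs x hxV
    refine ⟨W, hW.trans i, g, a, hxW, hg, ?_⟩
    rw [res_res'] at hd'
    exact hd'

include hd hD in
/-- A log form on an affine open with principal components decomposes globally. -/
theorem exists_dec {U : X.affineOpens} {g : Fin r → Γ(X, U.1)} (hg : IsGen D U g) {s : Γ(amb Ω' D, U.1)}
    (hs : IsLogForm d D U.1 s) : ∃ a, Dec d U g s a := by
  classical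
  choose V hV gV aV hxV hgV hdV using fun x : U.1 => hs x.1 x.2
  have hdV' : ∀ x, Dec d (V x) (fun i => X.presheaf.map (homOfLE (hV x)).op (g i))
      ((amb Ω' D).presheaf.map (homOfLE (hV x)).op s) (aV x) := fun x => (hdV x).change (hgV x) (hg.res (hV x))
  have hcov : U.1 ≤ iSup fun x => (V x).1 := fun y hy => Opens.mem_iSup.2 ⟨⟨y, hy⟩, hxV _⟩
  -- the residues
  have hq : ∀ i, ∃ q : Γ(ClSub.quotMod (D i), U.1), ∀ x,
      (ClSub.quotMod (D i)).presheaf.map (homOfLE (hV x)).op q =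
        aV x i • (LogNCD.oneOn (D i) (V x).1 : Γ(ClSub.quotMod (D i), (V x).1)) := fun i => by
    obtain ⟨q, hq, -⟩ := TopCat.Sheaf.existsUnique_gluing' (C := Ab.{u})
      ⟨(ClSub.quotMod (D i)).presheaf, (ClSub.quotMod (D i)).isSheaf⟩ (fun x => (V x).1) U.1
      (fun x => homOfLE (hV x)) hcov
      (fun x => (aV x i • (LogNCD.oneOn (D i) (V x).1 : Γ(ClSub.quotMod (D i), (V x).1)))) fun x y => by
        refine sub_eq_zero.1 (QCoh.eq_zero_of_locally _ _ fun p hp => ?_)
        obtain ⟨_, ⟨W, hW, rfl⟩, hpW, hWle⟩ := X.isBasis_affineOpens.exists_subset_of_mem_open hp ((V x).1 ⊓ (V y).1).2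
        refine ⟨W, homOfLE hWle, hpW, ?_⟩
        rw [map_sub, sub_eq_zero]
        show (ClSub.quotMod (D i)).presheaf.map (homOfLE hWle).op ((ClSub.quotMod (D i)).presheaf.map (homOfLE inf_le_left).op _) =
          (ClSub.quotMod (D i)).presheaf.map (homOfLE hWle).op ((ClSub.quotMod (D i)).presheaf.map (homOfLE inf_le_right).op _)
        have h1 : W ≤ (V x).1 := fun z hz => (hWle hz).1
        have h2 : W ≤ (V y).1 := fun z hz => (hWle hz).2
        refine (res_res' _ _ _).trans ((res_one (D i) h1 _).trans (Eq.trans ?_ ((res_res' _ _ _).trans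
          (res_one (D i) h2 _)).symm))
        have e1 := (hdV' x).res (V := ⟨W, hW⟩) h1
        have e2 := (hdV' y).res (V := ⟨W, hW⟩) h2
        rw [res_res'] at e1 e2
        exact dec_unique hd hD ((hg.res (hV x)).res (V := ⟨W, hW⟩) h1) ((hg.res (hV y)).res (V := ⟨W, hW⟩) h2)
          e1 e2 i
    exact ⟨q, hq⟩
  choose q hq using hq
  choose a ha using fun i => exists_smul_oneOn (D i) U (q i)
  obtain ⟨m, hm⟩ := exists_isDl (d := d) hg
  let s' := s - ∑ i, a i • m i
  have hloc : ∀ x, ∃ ω, (eta Ω' D).app (V x).1 ω = (amb Ω' D).presheaf.map (homOfLE (hV x)).op s' := fun x => by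
    obtain ⟨ω, m', hm', he⟩ := hdV' x
    have hc : ∀ i, ∃ c, aV x i = X.presheaf.map (homOfLE (hV x)).op (a i) + c * X.presheaf.map (homOfLE (hV x)).op (g i) := by
      intro i
      have h1 := hq i x
      rw [← ha i, res_one] at h1
      have h2 : (aV x i - X.presheaf.map (homOfLE (hV x)).op (a i)) •
          (LogNCD.oneOn (D i) (V x).1 : Γ(ClSub.quotMod (D i), (V x).1)) = 0 := by rw [sub_smul, h1, sub_self]
      rw [smul_oneOn_eq_zero_iff, hg.res (hV x) i, Ideal.mem_span_singleton'] at h2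
      obtain ⟨c, hc⟩ := h2
      exact ⟨c, by rw [hc]; ring⟩
    choose c hc using hc
    refine ⟨ω + ∑ i, c i • d.app (V x).1 (X.presheaf.map (homOfLE (hV x)).op (g i)), ?_⟩
    rw [show s' = s - ∑ i, a i • m i from rfl, map_sub, he, map_sum, map_add, map_sum, add_sub_assoc,
      ← Finset.sum_sub_distrib]
    congr 1
    refine Finset.sum_congr rfl fun i _ => ?_
    have hmi : (amb Ω' D).presheaf.map (homOfLE (hV x)).op (m i) = m' i :=
      amb_smul_gen_cancel (Ω' := Ω') i (hg.res (hV x) i) (((hm i).res (hV x)).trans (hm' i).symm)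
    rw [Scheme.Modules.map_smul, hmi, Scheme.Modules.Hom.app_smul, ← hm' i, hc i, add_smul, add_sub_cancel_left,
      smul_smul]
  choose ω hω using hloc
  obtain ⟨ω₀, hω₀, -⟩ := TopCat.Sheaf.existsUnique_gluing' (C := Ab.{u}) ⟨Ω'.presheaf, Ω'.isSheaf⟩
    (fun x => (V x).1) U.1 (fun x => homOfLE (hV x)) hcov ω fun x y => by
      refine eta_injective hd hD _ ?_
      show (eta Ω' D).app _ (Ω'.presheaf.map (homOfLE inf_le_left).op (ω x)) =
        (eta Ω' D).app _ (Ω'.presheaf.map (homOfLE inf_le_right).op (ω y))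
      rw [QCoh.map_app_comm, QCoh.map_app_comm, hω, hω, res_res', res_res']
  refine ⟨a, ω₀, m, hm, ?_⟩
  rw [← sub_eq_iff_eq_add]
  refine TopCat.Sheaf.eq_of_locally_eq' (C := Ab.{u}) ⟨(amb Ω' D).presheaf, (amb Ω' D).isSheaf⟩
    (fun x => (V x).1) U.1 (fun x => homOfLE (hV x)) hcov _ _ fun x => ?_
  show (amb Ω' D).presheaf.map (homOfLE (hV x)).op s' = _
  rw [← hω x, ← hω₀ x]
  exact QCoh.map_app_comm (eta Ω' D) (homOfLE (hV x)) ω₀

include hd hD in
theorem exists_logMod : Nonempty (LogNCD.LogMod d D) := by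
  classical
  let N := logSub d hd hD
  let ι₀ : Ω' ⟶ N.toModules := ⟨
    { app := fun U => ModuleCat.ofHom
        (Y := N.toModules.val.obj U)
        { toFun := fun ω => (⟨(eta Ω' D).app U.unop ω, isLogForm_eta hD U.unop ω⟩ : N.mem U.unop)
          map_add' := fun ω ω' => Subtype.ext (map_add _ ω ω')
          map_smul' := fun t ω => Subtype.ext (Scheme.Modules.Hom.app_smul (eta Ω' D) t ω) }
      naturality := fun {U V} i => ModuleCat.hom_ext (LinearMap.ext fun ω => Subtype.ext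
        (QCoh.map_app_comm (eta Ω' D) i.unop ω)) }⟩
  have hι₀ : ∀ (U : X.Opens) (ω : Γ(Ω', U)), N.ι.app U (ι₀.app U ω) = (eta Ω' D).app U ω := fun U ω => rfl
  let B := {U : X.affineOpens // Good D U}
  let V : B → X.Opens := fun U => U.1.1
  have hB : Opens.IsBasis (Set.range V) := by
    have : Set.range V = {W : X.Opens | ∃ U : X.affineOpens, U.1 = W ∧ Good D U} :=
      Set.ext fun W => ⟨fun ⟨U, h⟩ => ⟨U.1, h, U.2⟩, fun ⟨U, h, hU⟩ => ⟨⟨U, hU⟩, h⟩⟩
    rw [this]
    exact isBasis_good hD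
  choose g hg using fun U : B => U.2
  choose a ha using fun (U : B) (t : Γ(N.toModules, V U)) =>
    exists_dec hd hD (U := U.1) (hg U) (N.ι_app_mem (V U) t)
  have hres : ∀ i, ∃ φ : N.toModules ⟶ ClSub.quotMod (D i), ∀ U (t : Γ(N.toModules, V U)),
      φ.app (V U) t = a U t i • (LogNCD.oneOn (D i) (V U) : Γ(ClSub.quotMod (D i), V U)) := fun i => by
    let app : ∀ U : B, Γ(N.toModules, V U) →+ Γ(ClSub.quotMod (D i), V U) := fun U =>
      AddMonoidHom.mk' (fun t => a U t i • LogNCD.oneOn (D i) (V U)) fun t t' => by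
        have h := (ha U t).add (hg U) (ha U t')
        rw [← map_add] at h
        exact (dec_unique hd hD (hg U) (hg U) (ha U (t + t')) h i).trans (add_smul _ _ _)
    refine exists_hom_of_basis V hB app (fun U s t => ?_) (fun U W h t => ?_)
    · have h := (ha U t).smul s
      rw [← Scheme.Modules.Hom.app_smul] at h
      exact (dec_unique hd hD (hg U) (hg U) (ha U (s • t)) h i).trans (mul_smul _ _ _)
    · have e := (ha U t).res (V := W.1) h
      rw [← QCoh.map_app_comm] at e
      exact (dec_unique hd hD (hg W) (IsGen.res (V := W.1) (hg U) h) (ha W _) e i).trans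
        (res_one (D i) h (a U t i)).symm
  choose res hres using hres
  have hresv : ∀ (U : X.affineOpens) (g' : Fin r → Γ(X, U.1)) (hg' : IsGen D U g') (t : Γ(N.toModules, U.1))
      (a' : Fin r → Γ(X, U.1)), Dec d U g' (N.ι.app U.1 t) a' → ∀ i,
      (res i).app U.1 t = a' i • (LogNCD.oneOn (D i) U.1 : Γ(ClSub.quotMod (D i), U.1)) := by
    intro U g' hg' t a' ht i
    let b : B := ⟨U, fun j => ⟨g' j, hg' j⟩⟩
    exact (hres i b t).trans (dec_unique hd hD (hg b) hg' (ha b t) ht i)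
  refine ⟨⟨N.toModules, ι₀, res, ?_, fun i => ?_, ?_⟩⟩
  · exact QCoh.mono_of_app_injective _ fun U ω ω' h => eta_injective hd hD U
      (by rw [← hι₀, ← hι₀, h])
  · refine hom_eq_zero_of_isBasis _ hB ?_
    rintro _ ⟨U, rfl⟩ ω
    show (res i).app (V U) (ι₀.app (V U) ω) = 0
    rw [hresv U.1 (g U) (hg U) _ 0 ((hι₀ _ ω).symm ▸ dec_eta (hg U) ω) i]
    exact zero_smul _ _
  · intro U g' hg'
    replace hg' : IsGen D U g' := hg'
    refine ⟨fun t ht => N.ι_app_injective U.1 ?_, ?_⟩
    · rw [map_zero]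
      have hP : Function.Bijective fun m : Γ(amb Ω' D, U.1) => (∏ i, g' i) • m := by
        refine Finset.induction_on (motive := fun s => Function.Bijective
          fun m : Γ(amb Ω' D, U.1) => (∏ i ∈ s, g' i) • m) Finset.univ ?_ ?_
        · simp only [Finset.prod_empty, one_smul]; exact Function.bijective_id
        · intro j s hj ih
          simp only [Finset.prod_insert hj, mul_smul]
          exact (smul_gen_bijective (Ω' := Ω') j (hg' j)).comp ih
      refine hP.1 ?_
      show (∏ i, g' i) • N.ι.app U.1 t = (∏ i, g' i) • (0 : Γ(amb Ω' D, U.1))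
      rw [← Scheme.Modules.Hom.app_smul, ht, map_zero, smul_zero]
    obtain ⟨m, hm⟩ := exists_isDl (d := d) hg'
    have hdec : ∀ i, Dec d U g' (m i) (Pi.single i 1) := fun i => ⟨0, m, hm, by
      rw [map_zero, zero_add, Finset.sum_eq_single i (fun j _ hj => by rw [Pi.single_eq_of_ne hj, zero_smul])
        (fun h => absurd (Finset.mem_univ i) h), Pi.single_eq_same, one_smul]⟩
    have hmem : ∀ i, IsLogForm d D U.1 (m i) := fun i x hx =>
      ⟨U, le_rfl, _, _, hx, hg'.res (V := U) le_rfl, (hdec i).res (V := U) le_rfl⟩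
    choose dl hdl using fun i => N.exists_app_eq (U := U.1) (hmem i)
    refine ⟨dl, fun i => ?_, ?_, fun i => ?_, fun i j hij => ?_⟩
    · refine N.ι_app_injective U.1 ?_
      rw [Scheme.Modules.Hom.app_smul, hdl]
      exact (hm i).trans (hι₀ _ _).symm
    · refine eq_top_iff.2 fun t _ => ?_
      obtain ⟨a', ω, m', hm', ht⟩ := exists_dec hd hD hg' (N.ι_app_mem U.1 t)
      obtain rfl : m' = m := funext fun i => amb_smul_gen_cancel (Ω' := Ω') i (hg' i) ((hm' i).trans (hm i).symm)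
      have he : t = ι₀.app U.1 ω + ∑ i, a' i • dl i := N.ι_app_injective U.1 (by
        rw [ht, map_add, map_sum, hι₀]
        simp only [Scheme.Modules.Hom.app_smul, hdl])
      rw [he]
      exact add_mem (Submodule.subset_span (Or.inl ⟨ω, rfl⟩))
        (sum_mem fun i _ => Submodule.smul_mem _ _ (Submodule.subset_span (Or.inr ⟨i, rfl⟩)))
    · show (res i).app U.1 (dl i) = _
      rw [hresv U g' hg' (dl i) (Pi.single i 1) (by rw [hdl]; exact hdec i) i, Pi.single_eq_same, one_smul]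
    · show (res j).app U.1 (dl i) = _
      rw [hresv U g' hg' (dl i) (Pi.single i 1) (by rw [hdl]; exact hdec i) j, Pi.single_eq_of_ne hij.symm, zero_smul]

end Groth.Agent.LogNCD2
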