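import Groth.Prelude.Def_FlatMod2
import Groth.Agent.LogNCD2.Basic
import Groth.Agent.LogNCD2.Chart
import Groth.Agent.H23.Frame
import Groth.Agent.QCoh.LocFree
import Groth.Agent.Synt29.OmegaStalk
import Mathlib.AlgebraicGeometry.Morphisms.Smooth

/-!
Local bases of the module of logarithmic differentials.
-/

universe u

open CategoryTheory CategoryTheory.Limits AlgebraicGeometry TopologicalSpace Opposite

noncomputable section

namespace Groth.Agent.LogNCD2

set_option backward.isDefEq.respectTransparency false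
set_option backward.isDefEq.respectTransparency.types false

section Alg

variable {B M L : Type*} [CommRing B] [AddCommGroup M] [Module B M] [AddCommGroup L] [Module B L]
  {σ : Type*} [Fintype σ] {r : ℕ}

/-- The logarithmic basis. -/
theorem bijective_log (ι : M →ₗ[B] L) (hι : Function.Injective ι) (b : Module.Basis σ B M) (p : σ → Option (Fin r))
    (g : Fin r → B) (c : Fin r → M) (hg : ∀ i, IsSMulRegular B (g i))
    (hpc : ∀ k i, p k = some i → c i = b k) (hp : ∀ i, (∃ k, p k = some i) ∨ g i = 1 ∧ c i = 0)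
    (dl : Fin r → L) (hdl : ∀ i, g i • dl i = ι (c i))
    (hspan : ∀ x : L, ∃ (ω : M) (a : Fin r → B), x = ι ω + ∑ i, a i • dl i)
    (w : σ → L) (hw : ∀ k, p k = none → w k = ι (b k)) (hw' : ∀ k i, p k = some i → w k = dl i) :
    Function.Bijective fun a : σ → B => ∑ k, a k • w k := by
  classical
  let φ : (σ → B) →ₗ[B] L := Fintype.linearCombination B w
  have hb : ∀ k, ι (b k) ∈ LinearMap.range φ := by
    intro k
    rw [Fintype.range_linearCombination]
    cases hk : p k with
    | none => rw [← hw k hk]; exact Submodule.subset_span ⟨k, rfl⟩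
    | some i =>
      rw [← hpc k i hk, ← hdl, ← hw' k i hk]
      exact Submodule.smul_mem _ _ (Submodule.subset_span ⟨k, rfl⟩)
  have hdl' : ∀ i, dl i ∈ LinearMap.range φ := by
    intro i
    rcases hp i with ⟨k, hk⟩ | ⟨h1, h0⟩
    · rw [Fintype.range_linearCombination, ← hw' k i hk]
      exact Submodule.subset_span ⟨k, rfl⟩
    · have := hdl i
      rw [h1, h0, one_smul, map_zero] at this
      rw [this]
      exact zero_mem _
  refine ⟨?_, fun x => ?_⟩
  · show Function.Injective φ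
    rw [← LinearMap.ker_eq_bot]
    refine (Submodule.eq_bot_iff _).2 fun a ha => funext fun k => ?_
    let q : σ → B := fun k => (p k).elim (∏ j, g j) fun i => ∏ j ∈ Finset.univ.erase i, g j
    have key : ι (∑ k, (a k * q k) • b k) = (∏ j, g j) • φ a := by
      rw [map_sum, Fintype.linearCombination_apply, Finset.smul_sum]
      refine Finset.sum_congr rfl fun k _ => ?_
      rw [map_smul]
      cases hk : p k with
      | none =>
        rw [hw k hk, smul_smul, mul_comm]
        simp [q, hk]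
      | some i =>
        rw [hw' k i hk, ← hpc k i hk, ← hdl, smul_smul, smul_smul,
          ← Finset.mul_prod_erase _ _ (Finset.mem_univ i)]
        simp only [q, hk, Option.elim_some]
        congr 1
        ring
    rw [show φ a = 0 from ha, smul_zero] at key
    have h0 := hι (key.trans (map_zero ι).symm)
    have hk0 : a k * q k = 0 := Fintype.linearIndependent_iff.1 b.linearIndependent _ h0 k
    have hreg : ∀ s : Finset (Fin r), IsSMulRegular B (∏ j ∈ s, g j) := fun s => by
      induction s using Finset.induction_on with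
      | empty => simp
      | @insert j s hj ih => rw [Finset.prod_insert hj]; exact (hg j).mul ih
    have hq : IsSMulRegular B (q k) := by
      cases hk : p k with
      | none => simpa [q, hk] using hreg Finset.univ
      | some i => simpa [q, hk] using hreg _
    exact hq (by simp [smul_eq_mul, mul_comm (q k), hk0])
  · obtain ⟨ω, c', rfl⟩ := hspan x
    refine add_mem ?_ (Submodule.sum_mem _ fun i _ => Submodule.smul_mem _ _ (hdl' i) :
      ∑ i, c' i • dl i ∈ LinearMap.range φ)
    rw [← b.sum_repr ω, map_sum]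
    exact Submodule.sum_mem _ fun k _ => by rw [map_smul]; exact Submodule.smul_mem _ _ (hb k)

end Alg

variable {X S : Scheme.{u}} {f : X ⟶ S}

/-- A morphism of modules on sections, as a linear map. -/
def appLin {M N : X.Modules} (φ : M ⟶ N) (V : X.Opens) : Γ(M, V) →ₗ[Γ(X, V)] Γ(N, V) where
  toFun := φ.app V
  map_add' := map_add _
  map_smul' t m := Scheme.Modules.Hom.app_smul φ t m

theorem bijective_congr {B L : Type*} [CommRing B] [AddCommGroup L] [Module B L] {σ : Type*} [Fintype σ]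
    {w w' : σ → L} (h : ∀ k, w k = w' k) (hb : Function.Bijective fun a : σ → B => ∑ k, a k • w k) :
    Function.Bijective fun a : σ → B => ∑ k, a k • w' k := by
  rwa [show w = w' from funext h] at hb

/-- Frames may be checked on a basis. -/
theorem isFrame_of_isBasis {n : ℕ} {M : X.Modules} {U : X.Opens} (s : Fin n → Γ(M, U)) {B : Set X.Opens}
    (hB : ∀ (O : X.Opens) (x : X), x ∈ O → O ≤ U → ∃ V ∈ B, x ∈ V ∧ V ≤ O)
    (h : ∀ (V : X.Opens) (hV : V ≤ U), V ∈ B → Function.Bijective (H23.Frame.comb M s V hV)) :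
    H23.Frame.IsFrame M s := by
  have hres : ∀ {W V : X.Opens} (hWU : W ≤ U) (hVW : V ≤ W) (c : Fin n → Γ(X, W)),
      M.presheaf.map (homOfLE hVW).op (H23.Frame.comb M s W hWU c) =
        H23.Frame.comb M s V (hVW.trans hWU) fun i => X.presheaf.map (homOfLE hVW).op (c i) := by
    intro W V hWU hVW c
    simp only [H23.Frame.comb, map_sum]
    refine Finset.sum_congr rfl fun i _ => ?_
    rw [Scheme.Modules.map_smul, ← ConcreteCategory.comp_apply, ← M.presheaf.map_comp]
    rfl
  have inj : ∀ (W : X.Opens) (hW : W ≤ U), Function.Injective (H23.Frame.comb M s W hW) := by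
    intro W hW c c' e
    funext i
    let J := {V : X.Opens // V ∈ B ∧ V ≤ W}
    refine X.sheaf.eq_of_locally_eq' (fun V : J => V.1) W (fun V => homOfLE V.2.2) ?_ _ _ fun V => ?_
    · intro x hx
      obtain ⟨V, hVB, hxV, hVW⟩ := hB W x hx hW
      exact Opens.mem_iSup.2 ⟨⟨V, hVB, hVW⟩, hxV⟩
    · have he := congrArg (M.presheaf.map (homOfLE V.2.2).op) e
      rw [hres, hres] at he
      exact congrFun ((h V.1 _ V.2.1).1 he) i
  intro W hW
  refine ⟨inj W hW, fun y => ?_⟩
  let J := {V : X.Opens // V ∈ B ∧ V ≤ W}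
  have hcov : W ≤ iSup (fun V : J => V.1) := fun x hx => by
    obtain ⟨V, hVB, hxV, hVW⟩ := hB W x hx hW
    exact Opens.mem_iSup.2 ⟨⟨V, hVB, hVW⟩, hxV⟩
  choose c hc using fun V : J => (h V.1 (V.2.2.trans hW) V.2.1).2 (M.presheaf.map (homOfLE V.2.2).op y)
  have hcompat : ∀ (V V' : J), (fun i => X.presheaf.map (homOfLE (inf_le_left : V.1 ⊓ V'.1 ≤ V.1)).op (c V i)) =
      fun i => X.presheaf.map (homOfLE (inf_le_right : V.1 ⊓ V'.1 ≤ V'.1)).op (c V' i) := fun V V' => by
    refine inj (V.1 ⊓ V'.1) (inf_le_left.trans (V.2.2.trans hW)) ?_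
    rw [← hres (V.2.2.trans hW), ← hres (V'.2.2.trans hW), hc, hc, ← ConcreteCategory.comp_apply,
      ← ConcreteCategory.comp_apply, ← M.presheaf.map_comp, ← M.presheaf.map_comp]
    rfl
  choose a ha using fun i => X.sheaf.existsUnique_gluing' (fun V : J => V.1) W (fun V => homOfLE V.2.2) hcov
    (fun V => c V i) (fun V V' => congrFun (hcompat V V') i)
  refine ⟨a, TopCat.Sheaf.eq_of_locally_eq' (C := Ab.{u}) ⟨M.presheaf, M.isSheaf⟩ (fun V : J => V.1) W
    (fun V => homOfLE V.2.2) hcov _ _ fun V => ?_⟩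
  show M.presheaf.map (homOfLE V.2.2).op (H23.Frame.comb M s W hW a) = M.presheaf.map (homOfLE V.2.2).op y
  rw [hres, ← hc V]
  exact congrArg _ (funext fun i => (ha i).1 V)

theorem comb_basis {n : ℕ} {M : X.Modules} {U : X.Opens} {s : Fin n → Γ(M, U)} (hs : H23.Frame.IsFrame M s)
    (W : X.Opens) (h : W ≤ U) :
    ∃ b : Module.Basis (Fin n) Γ(X, W) Γ(M, W), ∀ k, b k = M.presheaf.map (homOfLE h).op (s k) := by
  let φ : (Fin n → Γ(X, W)) →ₗ[Γ(X, W)] Γ(M, W) :=
    Fintype.linearCombination Γ(X, W) fun k => M.presheaf.map (homOfLE h).op (s k)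
  refine ⟨Module.Basis.ofEquivFun (LinearEquiv.ofBijective φ (hs W h)).symm, fun k => ?_⟩
  rw [Module.Basis.coe_ofEquivFun]
  simp [φ, Fintype.linearCombination_apply_single]

variable {Ω' : X.Modules} {d : OmegaSh.Der f Ω'}

theorem exists_frame_omega (hd : OmegaSh.IsUniversal d) (n : ℕ) [SmoothOfRelativeDimension n f] (x : X) :
    ∃ (U : X.Opens) (s : Fin n → Γ(Ω', U)), x ∈ U ∧ H23.Frame.IsFrame Ω' s := by
  obtain ⟨V, hV, U, hU, hxU, e, hstd⟩ :=
    SmoothOfRelativeDimension.exists_isStandardSmoothOfRelativeDimension (n := n) (f := f) x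
  let _ := (f.appLE V U e).hom.toAlgebra
  have : Algebra.IsStandardSmoothOfRelativeDimension n Γ(S, V) Γ(X, U) := hstd
  have : Algebra.IsStandardSmooth Γ(S, V) Γ(X, U) :=
    Algebra.IsStandardSmoothOfRelativeDimension.isStandardSmooth n
  have : Nontrivial Γ(X, U) := by
    refine ⟨⟨0, 1, fun h => ?_⟩⟩
    have h1 := congrArg (X.presheaf.germ U x hxU) h
    rw [map_zero, map_one] at h1
    exact zero_ne_one h1
  have hr : Module.finrank Γ(X, U) Ω[Γ(X, U)⁄Γ(S, V)] = n := by
    have := Algebra.IsStandardSmoothOfRelativeDimension.rank_kaehlerDifferential (R := Γ(S, V)) (S := Γ(X, U)) n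
    simp [Module.finrank, this]
  let b := (Module.finBasisOfFinrankEq Γ(X, U) Ω[Γ(X, U)⁄Γ(S, V)] hr).reindex Equiv.ulift.symm
  obtain ⟨l, -⟩ := Groth.Agent.SymOmega.exists_linearEquiv_D hd hU hV e
  obtain ⟨i⟩ := QCoh.exists_free_restrict (Groth.Agent.Synt29.OmegaStalk.isQCoh_of_isUniversal hd) hU
    (l.trans b.repr)
  obtain ⟨s, hs⟩ := H23.Frame.exists_frame i
  exact ⟨U, s, hxU, hs⟩

theorem res_d {U V : X.Opens} (h : V ≤ U) (t : Γ(X, U)) :
    Ω'.presheaf.map (homOfLE h).op (d.app U t) = d.app V (X.presheaf.map (homOfLE h).op t) :=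
  (Groth.Agent.Synt29.OmegaStalk.app_res Ω' d (homOfLE h) t).symm

theorem sectOn_res' {W : X.Opens} {U V : X.Opens} (h : U ≤ W) (h' : V ≤ U) (t : Γ(W, ⊤)) :
    X.presheaf.map (homOfLE h').op (LogNCD.sectOn W h t) = LogNCD.sectOn W (h'.trans h) t := by
  rw [LogNCD.sectOn_apply, LogNCD.sectOn_apply, ← ConcreteCategory.comp_apply, ← X.presheaf.map_comp]
  rfl

variable {r : ℕ} {D : Fin r → X.IdealSheafData}

theorem dl_res (Λ : LogNCD.LogMod d D) {U V : X.affineOpens} (h : V.1 ≤ U.1) {g : Fin r → Γ(X, U.1)}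
    (hg : ∀ i, (D i).ideal U = Ideal.span {g i}) (L : DL Λ U g)
    (L' : DL Λ V fun i => X.presheaf.map (homOfLE h).op (g i)) (i : Fin r) :
    Λ.L.presheaf.map (homOfLE h).op (L.dl i) = L'.dl i := by
  classical
  refine sub_eq_zero.1 (torsion Λ (fun j => span_res h (hg j)) ?_)
  rw [← Finset.mul_prod_erase _ _ (Finset.mem_univ i), mul_comm, mul_smul, smul_sub, L'.smul_dl,
    ← Scheme.Modules.map_smul Λ.L (homOfLE h), L.smul_dl, ← QCoh.map_app_comm, res_d, sub_self, smul_zero]

theorem isFinLocFreeOfRank (hd : OmegaSh.IsUniversal d) (n : ℕ) [SmoothOfRelativeDimension n f]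
    (hD : LogNCD.IsNCD D f) (Λ : LogNCD.LogMod d D) : FlatMod.IsFinLocFreeOfRank n Λ.L := by
  classical
  intro x
  obtain ⟨U₁, s₁, hxU₁, hs₁⟩ := exists_frame_omega hd n x
  suffices h : ∃ (U : X.Opens) (s : Fin n → Γ(Λ.L, U)), x ∈ U ∧ H23.Frame.IsFrame Λ.L s by
    obtain ⟨U, s, hxU, hs⟩ := h
    exact ⟨U, hxU, H23.Frame.exists_iso_of_frame s hs⟩
  by_cases hT : Nonempty (LogNCD.Through D x)
  · obtain ⟨W, hxW, m, v, e, he, het, hin, hout⟩ := hD x hT
    obtain ⟨_, ⟨V₀, hV₀, rfl⟩, hxV₀, -⟩ :=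
      S.isBasis_affineOpens.exists_subset_of_mem_open (Set.mem_univ (f x)) isOpen_univ
    obtain ⟨_, ⟨U, hU, rfl⟩, hxU, hUle⟩ := X.isBasis_affineOpens.exists_subset_of_mem_open
      (show x ∈ U₁ ⊓ W ⊓ f ⁻¹ᵁ V₀ from ⟨⟨hxU₁, hxW⟩, hxV₀⟩) (U₁ ⊓ W ⊓ f ⁻¹ᵁ V₀).2
    have hUW : U ≤ W := fun y hy => (hUle hy).1.2
    have hUV : U ≤ f ⁻¹ᵁ V₀ := fun y hy => (hUle hy).2
    have hnm : m = n := by
      obtain ⟨b, -, -⟩ := exists_basis_of_chart hd W v het hV₀ ⟨U, hU⟩ hUW hUV
      obtain ⟨b', -⟩ := comb_basis hs₁ U fun y hy => (hUle hy).1.1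
      have : Nontrivial Γ(X, U) := by
        refine ⟨⟨0, 1, fun h => ?_⟩⟩
        have h1 := congrArg (X.presheaf.germ U x hxU) h
        rw [map_zero, map_one] at h1
        exact zero_ne_one h1
      simpa using (Module.finrank_eq_card_basis b).symm.trans (Module.finrank_eq_card_basis b')
    subst hnm
    let g : Fin r → Γ(X, U) := fun i =>
      if hi : x ∈ (D i).support then LogNCD.sectOn W hUW (v (ULift.up (e ⟨i, hi⟩))) else 1
    have hg : ∀ i, (D i).ideal ⟨U, hU⟩ = Ideal.span {g i} := fun i => by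
      by_cases hi : x ∈ (D i).support
      · simp only [g, dif_pos hi]; exact hin ⟨i, hi⟩ ⟨U, hU⟩ hUW
      · simp only [g, dif_neg hi]; exact (hout i hi ⟨U, hU⟩ hUW).trans Ideal.span_singleton_one.symm
    obtain ⟨L⟩ := nonempty_dl Λ hg
    let p : Fin m → Option (Fin r) := fun k =>
      if hk : ∃ i : LogNCD.Through D x, e i = k then some hk.choose.1 else none
    let w : Fin m → Γ(Λ.L, U) := fun k =>
      (p k).elim (Λ.ι.app U (d.app U (LogNCD.sectOn W hUW (v (ULift.up k))))) L.dl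
    refine ⟨U, w, hxU, isFrame_of_isBasis w (B := {V | IsAffineOpen V}) (fun O y hy _ => ?_) ?_⟩
    · obtain ⟨_, ⟨V, hV, rfl⟩, hyV, hVO⟩ := X.isBasis_affineOpens.exists_subset_of_mem_open hy O.2
      exact ⟨V, hV, hyV, hVO⟩
    intro V hle hV
    obtain ⟨b, hb, hreg⟩ := exists_basis_of_chart hd W v het hV₀ ⟨V, hV⟩ (hle.trans hUW) (hle.trans hUV)
    have hgV := fun i => span_res (I := D i) (U := ⟨U, hU⟩) (V := ⟨V, hV⟩) hle (hg i)
    obtain ⟨L'⟩ := nonempty_dl Λ hgV
    have hgv : ∀ i, X.presheaf.map (homOfLE hle).op (g i) =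
        if hi : x ∈ (D i).support then LogNCD.sectOn W (hle.trans hUW) (v (ULift.up (e ⟨i, hi⟩))) else 1 :=
      fun i => by
        by_cases hi : x ∈ (D i).support
        · simp only [g, dif_pos hi]; exact sectOn_res' hUW hle _
        · simp only [g, dif_neg hi, map_one]
    refine bijective_congr ?_ (bijective_log (appLin Λ.ι V) (ι_injective Λ V) (b.reindex Equiv.ulift) p
      (fun i => X.presheaf.map (homOfLE hle).op (g i))
      (fun i => d.app V (X.presheaf.map (homOfLE hle).op (g i))) ?_ ?_ ?_ L'.dl L'.smul_dl L'.exists_eq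
      (fun k => Λ.L.presheaf.map (homOfLE hle).op (w k)) ?_ ?_)
    · intro k; rfl
    · intro i
      show IsSMulRegular Γ(X, V) (X.presheaf.map (homOfLE hle).op (g i))
      rw [hgv]
      split_ifs
      · exact hreg _
      · exact IsSMulRegular.one _
    · intro k i hk
      simp only [p] at hk
      split_ifs at hk with hex
      obtain rfl := Option.some.inj hk
      rw [hgv, dif_pos hex.choose.2]
      refine Eq.trans ?_ ((Module.Basis.reindex_apply b Equiv.ulift k).trans (hb (ULift.up k))).symm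
      exact congrArg (fun j => d.app V (LogNCD.sectOn W (hle.trans hUW) (v (ULift.up j)))) hex.choose_spec
    · intro i
      by_cases hi : x ∈ (D i).support
      · refine Or.inl ⟨e ⟨i, hi⟩, ?_⟩
        have hex : ∃ j : LogNCD.Through D x, e j = e ⟨i, hi⟩ := ⟨_, rfl⟩
        simp only [p, dif_pos hex, he hex.choose_spec]
      · refine Or.inr ⟨by rw [hgv, dif_neg hi], ?_⟩
        rw [hgv, dif_neg hi]
        exact d.d_one _
    · intro k hk
      simp only [w, hk, Option.elim_none]
      rw [← QCoh.map_app_comm, res_d, sectOn_res']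
      exact congrArg _ ((Module.Basis.reindex_apply b Equiv.ulift k).trans (hb (ULift.up k))).symm
    · intro k i hk
      simp only [w, hk, Option.elim_some]
      exact dl_res Λ (U := ⟨U, hU⟩) (V := ⟨V, hV⟩) hle hg L L' i
  · let A : X.Opens := ⟨(⋃ i, ((D i).support : Set X))ᶜ,
      (isClosed_iUnion_of_finite fun i => (D i).support.isClosed).isOpen_compl⟩
    have hxA : x ∈ U₁ ⊓ A := ⟨hxU₁, fun h => by
      obtain ⟨i, hi⟩ := Set.mem_iUnion.1 h
      exact hT ⟨⟨i, hi⟩⟩⟩
    have hs := hs₁.res (inf_le_left : U₁ ⊓ A ≤ U₁)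
    refine ⟨U₁ ⊓ A, fun k => Λ.ι.app _ (Ω'.presheaf.map (homOfLE inf_le_left).op (s₁ k)), hxA,
      isFrame_of_isBasis _ (B := {V | IsAffineOpen V}) (fun O y hy _ => ?_) ?_⟩
    · obtain ⟨_, ⟨V, hV, rfl⟩, hyV, hVO⟩ := X.isBasis_affineOpens.exists_subset_of_mem_open hy O.2
      exact ⟨V, hV, hyV, hVO⟩
    intro V hle hV
    have hgV : ∀ i, (D i).ideal ⟨V, hV⟩ = Ideal.span {(1 : Γ(X, V))} := fun i =>
      (ideal_eq_top (U := ⟨V, hV⟩) fun y hy hyi => (hle hy).2 (Set.mem_iUnion.2 ⟨i, hyi⟩)).trans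
        Ideal.span_singleton_one.symm
    obtain ⟨L⟩ := nonempty_dl Λ hgV
    obtain ⟨b, hb⟩ := comb_basis hs V hle
    refine bijective_congr ?_ (bijective_log (appLin Λ.ι V) (ι_injective Λ V) b (fun _ => none)
      (fun _ => (1 : Γ(X, V))) (fun _ => 0) (fun _ => IsSMulRegular.one _) (by simp) (by simp) L.dl
      (fun i => by rw [L.smul_dl i, show d.app V 1 = 0 from d.d_one _]; rfl) L.exists_eq
      (fun k => Λ.L.presheaf.map (homOfLE hle).op (Λ.ι.app _ (Ω'.presheaf.map (homOfLE inf_le_left).op (s₁ k))))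
      (fun k _ => by rw [← QCoh.map_app_comm, ← hb k]; rfl) (by simp))
    exact fun k => rfl

end Groth.Agent.LogNCD2
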