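import Groth.Agent.SiteBase.GodementCx
import Mathlib.Algebra.Homology.Refinements
import Mathlib.Algebra.Category.Grp.Adjunctions

/-!
Quasi-isomorphisms of complexes of sheaves from sections over a basis.
-/

universe u

open CategoryTheory CategoryTheory.Limits TopologicalSpace Opposite

noncomputable section

namespace Groth.Agent.LogNCD2

/-- A criterion for quasi-isomorphisms of cochain complexes of abelian groups. -/
theorem quasiIso_ab {K L : CochainComplex AddCommGrpCat.{u} ℕ} (φ : K ⟶ L)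
    (hinj : ∀ n, Function.Injective (φ.f n))
    (h : ∀ (n : ℕ) (y : L.X n) (x : K.X (n + 1)), L.d n (n + 1) y = φ.f (n + 1) x →
      ∃ (v : K.X n) (w : L.X ((ComplexShape.up ℕ).prev n)), y = φ.f n v + L.d _ n w) :
    QuasiIso φ := by
  classical
  have lift : ∀ {A : AddCommGrpCat.{u}} {T : AddCommGrpCat.{u}} (φ' : A → T),
      ∃ (π : AddCommGrpCat.free.obj (A : Type u) ⟶ A) (φ'' : AddCommGrpCat.free.obj (A : Type u) ⟶ T),
        Epi π ∧ ∀ a, π (FreeAbelianGroup.of a) = a ∧ φ'' (FreeAbelianGroup.of a) = φ' a :=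
    fun {A T} φ' => ⟨AddCommGrpCat.ofHom (FreeAbelianGroup.lift id), AddCommGrpCat.ofHom (FreeAbelianGroup.lift φ'),
      (AddCommGrpCat.epi_iff_surjective _).2 fun a => ⟨FreeAbelianGroup.of a, FreeAbelianGroup.lift_apply_of _ a⟩,
      fun a => ⟨FreeAbelianGroup.lift_apply_of _ a, FreeAbelianGroup.lift_apply_of _ a⟩⟩
  refine ⟨fun n => ?_⟩
  rw [quasiIsoAt_iff_isIso_homologyMap]
  have hprev : ∀ w : L.X ((ComplexShape.up ℕ).prev n), L.d n (n + 1) (L.d _ n w) = 0 := fun w =>
    ConcreteCategory.congr_hom (L.d_comp_d _ n (n + 1)) w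
  have : Mono (HomologicalComplex.homologyMap φ n) := by
    rw [HomologicalComplex.mono_homologyMap_iff_up_to_refinements φ ((ComplexShape.up ℕ).prev n) n (n + 1) rfl
      (CochainComplex.next ℕ n)]
    intro A x hx y hy
    have hpre : ∀ a : A, ∃ v : K.X ((ComplexShape.up ℕ).prev n), x a = K.d _ n v := fun a => by
      cases n with
      | zero =>
        refine ⟨0, hinj 0 ?_⟩
        have e := ConcreteCategory.congr_hom hy a
        rw [L.shape _ _ (by simp)] at e
        rw [map_zero, map_zero]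
        simpa using e
      | succ m =>
        have e : L.d ((ComplexShape.up ℕ).prev (m + 1)) (m + 1) (y a) = φ.f (m + 1) (x a) :=
          (ConcreteCategory.congr_hom hy a).symm
        revert e
        generalize y a = z
        revert z
        rw [CochainComplex.prev_nat_succ]
        intro z e
        obtain ⟨v, w, hv⟩ := h m z (x a) e
        refine ⟨v, hinj (m + 1) ?_⟩
        rw [← e, hv, map_add, show L.d m (m + 1) (L.d _ m w) = 0 from
          ConcreteCategory.congr_hom (L.d_comp_d _ m (m + 1)) w, add_zero]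
        exact ConcreteCategory.congr_hom (φ.comm m (m + 1)) v
    choose v hv using hpre
    obtain ⟨π, φ'', hπ, hφ⟩ := lift v
    exact ⟨_, π, hπ, φ'', AddCommGrpCat.hom_ext (FreeAbelianGroup.lift_ext _ _ fun a =>
      (congrArg x (hφ a).1).trans ((hv a).trans (congrArg (K.d _ n) (hφ a).2).symm))⟩
  have : Epi (HomologicalComplex.homologyMap φ n) := by
    rw [HomologicalComplex.epi_homologyMap_iff_up_to_refinements φ ((ComplexShape.up ℕ).prev n) n (n + 1) rfl
      (CochainComplex.next ℕ n)]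
    intro A y hy
    choose v w hvw using fun a : A => h n (y a) 0 (by
      rw [map_zero]; exact ConcreteCategory.congr_hom hy a)
    have hv : ∀ a, K.d n (n + 1) (v a) = 0 := fun a => hinj (n + 1) (by
      rw [map_zero]
      refine (ConcreteCategory.congr_hom (φ.comm n (n + 1)) (v a)).symm.trans ?_
      have e := ConcreteCategory.congr_hom hy a
      change L.d n (n + 1) (y a) = 0 at e
      rw [hvw a, map_add, hprev, add_zero] at e
      exact e)
    obtain ⟨π, φ'', hπ, hφ⟩ := lift v
    obtain ⟨π', φ''', -, hφ'⟩ := lift w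
    refine ⟨_, π, hπ, φ'', AddCommGrpCat.hom_ext (FreeAbelianGroup.lift_ext _ _ fun a =>
      (congrArg (K.d n (n + 1)) (hφ a).2).trans (hv a)), φ''', AddCommGrpCat.hom_ext (FreeAbelianGroup.lift_ext _ _ fun a => ?_)⟩
    show y (π (FreeAbelianGroup.of a)) = φ.f n (φ'' (FreeAbelianGroup.of a)) + L.d _ n (φ''' (FreeAbelianGroup.of a))
    rw [(hφ a).1, (hφ a).2, (hφ' a).2, ← hvw]
  exact isIso_of_mono_of_epi _

variable {X : TopCat.{u}}

theorem quasiIso_of_stalks_nat {E G : CochainComplex (CohTop.Ab X) ℕ} (φ : E ⟶ G)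
    (h : ∀ x : X, QuasiIso (((SiteBase.stalkF' x).mapHomologicalComplex _).map φ)) : QuasiIso φ := by
  refine ⟨fun i => ?_⟩
  rw [quasiIsoAt_iff_isIso_homologyMap]
  let f := HomologicalComplex.homologyMap φ i
  have : ∀ x : X, IsIso ((TopCat.Presheaf.stalkFunctor AddCommGrpCat.{u} x).map f.hom) := fun x => by
    have := SiteBase.preservesHomology_stalk x
    have h' : IsIso (HomologicalComplex.homologyMap (((SiteBase.stalkF' x).mapHomologicalComplex _).map φ) i) :=
      (quasiIsoAt_iff_isIso_homologyMap _ _).1 ((h x).quasiIsoAt i)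
    exact (NatIso.isIso_map_iff (ShortComplex.homologyFunctorIso (SiteBase.stalkF' x))
      ((HomologicalComplex.shortComplexFunctor _ _ i).map φ)).1 h'
  exact TopCat.Presheaf.isIso_of_stalkFunctor_map_iso f

/-- A map of complexes of sheaves is a quasi-isomorphism if over a basis it is injective and the quotient is exact. -/
theorem quasiIso_of_isBasis {K L : CochainComplex (CohTop.Ab X) ℕ} (φ : K ⟶ L) {B : Set (Opens X)}
    (hB : Opens.IsBasis B) (hinj : ∀ n, ∀ V ∈ B, Function.Injective ((φ.f n).hom.app (op V)))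
    (h : ∀ (n : ℕ), ∀ V ∈ B, ∀ (y : (L.X n).obj.obj (op V)) (x : (K.X (n + 1)).obj.obj (op V)),
      (L.d n (n + 1)).hom.app (op V) y = (φ.f (n + 1)).hom.app (op V) x →
      ∃ (v : (K.X n).obj.obj (op V)) (w : (L.X ((ComplexShape.up ℕ).prev n)).obj.obj (op V)),
        y = (φ.f n).hom.app (op V) v + (L.d _ n).hom.app (op V) w) : QuasiIso φ := by
  refine quasiIso_of_stalks_nat φ fun p => quasiIso_ab _ (fun n => ?_) fun n y x hyx => ?_
  · intro a b hab
    obtain ⟨U, hpU, s, rfl⟩ := TopCat.Presheaf.exists_germ_eq (K.X n).obj a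
    obtain ⟨U', hpU', s', rfl⟩ := TopCat.Presheaf.exists_germ_eq (K.X n).obj b
    replace hab : TopCat.Presheaf.germ (L.X n).obj U p hpU ((φ.f n).hom.app (op U) s) =
        TopCat.Presheaf.germ (L.X n).obj U' p hpU' ((φ.f n).hom.app (op U') s') :=
      (TopCat.Presheaf.stalkFunctor_map_germ_apply U p hpU (φ.f n).hom s).symm.trans
        (hab.trans (TopCat.Presheaf.stalkFunctor_map_germ_apply U' p hpU' (φ.f n).hom s'))
    obtain ⟨W, hpW, i, i', e⟩ := TopCat.Presheaf.germ_eq (L.X n).obj p hpU hpU' _ _ hab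
    obtain ⟨V, hV, hpV, hVW⟩ := Opens.isBasis_iff_nbhd.1 hB hpW
    have e2 : (K.X n).obj.map (homOfLE hVW ≫ i).op s = (K.X n).obj.map (homOfLE hVW ≫ i').op s' := by
      refine hinj n V hV ?_
      rw [NatTrans.naturality_apply, NatTrans.naturality_apply, op_comp, op_comp, Functor.map_comp,
        Functor.map_comp, ConcreteCategory.comp_apply, ConcreteCategory.comp_apply]
      exact congrArg _ e
    refine (TopCat.Presheaf.germ_res_apply (K.X n).obj (homOfLE hVW ≫ i) p hpV s).symm.trans ?_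
    rw [e2]
    exact TopCat.Presheaf.germ_res_apply (K.X n).obj (homOfLE hVW ≫ i') p hpV s'
  · obtain ⟨U, hpU, s, rfl⟩ := TopCat.Presheaf.exists_germ_eq (L.X n).obj y
    obtain ⟨U', hpU', t, rfl⟩ := TopCat.Presheaf.exists_germ_eq (K.X (n + 1)).obj x
    replace hyx : TopCat.Presheaf.germ (L.X (n + 1)).obj U p hpU ((L.d n (n + 1)).hom.app (op U) s) =
        TopCat.Presheaf.germ (L.X (n + 1)).obj U' p hpU' ((φ.f (n + 1)).hom.app (op U') t) :=
      (TopCat.Presheaf.stalkFunctor_map_germ_apply U p hpU (L.d n (n + 1)).hom s).symm.trans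
        (hyx.trans (TopCat.Presheaf.stalkFunctor_map_germ_apply U' p hpU' (φ.f (n + 1)).hom t))
    obtain ⟨W, hpW, i, i', e⟩ := TopCat.Presheaf.germ_eq (L.X (n + 1)).obj p hpU hpU' _ _ hyx
    obtain ⟨V, hV, hpV, hVW⟩ := Opens.isBasis_iff_nbhd.1 hB hpW
    obtain ⟨v, w, hvw⟩ := h n V hV ((L.X n).obj.map (homOfLE hVW ≫ i).op s)
      ((K.X (n + 1)).obj.map (homOfLE hVW ≫ i').op t) (by
        rw [NatTrans.naturality_apply, NatTrans.naturality_apply, op_comp, op_comp, Functor.map_comp,
          Functor.map_comp, ConcreteCategory.comp_apply, ConcreteCategory.comp_apply]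
        exact congrArg _ e)
    refine ⟨TopCat.Presheaf.germ (K.X n).obj V p hpV v, TopCat.Presheaf.germ (L.X _).obj V p hpV w, ?_⟩
    refine ((TopCat.Presheaf.germ_res_apply (L.X n).obj (homOfLE hVW ≫ i) p hpV s).symm.trans
      (congrArg _ hvw)).trans ((map_add _ _ _).trans ?_)
    exact (congrArg₂ (· + ·)
      (TopCat.Presheaf.stalkFunctor_map_germ_apply V p hpV (φ.f n).hom v)
      (TopCat.Presheaf.stalkFunctor_map_germ_apply V p hpV (L.d _ n).hom w)).symm

end Groth.Agent.LogNCD2
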