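import Groth.Prelude.Def_Conn
import Mathlib.LinearAlgebra.CliffordAlgebra.Contraction
import Mathlib.LinearAlgebra.ExteriorPower.Basis
import Mathlib.LinearAlgebra.TensorProduct.Basis

/-!
Contraction with a coordinate is a homotopy from the twisted residue to zero on a logarithmic de Rham complex.
-/

universe u

open TensorProduct exteriorPower

noncomputable section

namespace Groth.Agent.LogNCD2

variable {B : Type u} [CommRing B] {M L : Type u} [AddCommGroup M] [Module B M] [AddCommGroup L] [Module B L]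

/-- A one-form as an element of `Λ¹`. -/
def one1 (a : L) : ↥(⋀[B]^1 L) := ιMulti B 1 fun _ => a

theorem coe_one1 (a : L) : (one1 (B := B) a : ExteriorAlgebra B L) = ExteriorAlgebra.ι B a := by
  rw [one1, ιMulti_apply_coe, ExteriorAlgebra.ιMulti_succ_apply, ExteriorAlgebra.ιMulti_zero_apply, mul_one]

theorem one1_add (a a' : L) : one1 (B := B) (a + a') = one1 a + one1 a' :=
  Subtype.ext (by rw [Submodule.coe_add, coe_one1, coe_one1, coe_one1, map_add])

theorem one1_smul (t : B) (a : L) : one1 (B := B) (t • a) = t • one1 a :=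
  Subtype.ext (by rw [SetLike.val_smul, coe_one1, coe_one1, map_smul])

theorem wedge_one1 (p : ℕ) (a : L) (v : Fin p → L) :
    Conn.wedge p (one1 (B := B) a) (ιMulti B p v) = ιMulti B (p + 1) (Fin.cons a v) := by
  apply Subtype.ext
  rw [Conn.wedge_apply_coe, coe_one1, ιMulti_apply_coe, ιMulti_apply_coe,
    ExteriorAlgebra.ιMulti_succ_apply (n := p), Fin.cons_zero]
  rfl

theorem exists_one1 (α : ↥(⋀[B]^1 L)) : ∃ a, one1 a = α :=
  ⟨oneEquiv B L α, (oneEquiv B L).injective (by rw [one1, oneEquiv_ιMulti])⟩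

variable (ℓ : L →ₗ[B] B)

theorem contract_ι_mul (a : L) (x : ExteriorAlgebra B L) :
    CliffordAlgebra.contractLeft (Q := (0 : QuadraticForm B L)) ℓ (ExteriorAlgebra.ι B a * x) =
      ℓ a • x - ExteriorAlgebra.ι B a * CliffordAlgebra.contractLeft (Q := (0 : QuadraticForm B L)) ℓ x :=
  CliffordAlgebra.contractLeft_ι_mul (Q := (0 : QuadraticForm B L)) (d := ℓ) a x

theorem contract_mem : ∀ (p : ℕ) (v : Fin (p + 1) → L),
    CliffordAlgebra.contractLeft (Q := (0 : QuadraticForm B L)) ℓ (ExteriorAlgebra.ιMulti B (p + 1) v) ∈ ⋀[B]^p L := by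
  intro p
  induction p with
  | zero =>
    intro v
    rw [ExteriorAlgebra.ιMulti_succ_apply, ExteriorAlgebra.ιMulti_zero_apply, mul_one]
    erw [CliffordAlgebra.contractLeft_ι]
    rw [Algebra.algebraMap_eq_smul_one]
    refine Submodule.smul_mem _ _ ?_
    exact SetLike.one_mem_graded (fun i : ℕ => ⋀[B]^i L)
  | succ p ih =>
    intro v
    rw [ExteriorAlgebra.ιMulti_succ_apply, contract_ι_mul]
    refine sub_mem (Submodule.smul_mem _ _ (ιMulti B (p + 1) (Matrix.vecTail v)).2) ?_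
    rw [← coe_one1]
    exact Conn.mul_mem_succ p (one1 (B := B) (v 0)) ⟨_, ih (Matrix.vecTail v)⟩

theorem contract_mem' (p : ℕ) (η : ↥(⋀[B]^(p + 1) L)) :
    CliffordAlgebra.contractLeft (Q := (0 : QuadraticForm B L)) ℓ (η : ExteriorAlgebra B L) ∈ ⋀[B]^p L := by
  have h : (η : ↥(⋀[B]^(p + 1) L)) ∈ Submodule.span B (Set.range (ιMulti B (p + 1) (M := L))) :=
    (ιMulti_span B (p + 1) L).symm ▸ Submodule.mem_top
  induction h using Submodule.span_induction with
  | mem x hx => obtain ⟨v, rfl⟩ := hx; rw [ιMulti_apply_coe]; exact contract_mem ℓ p v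
  | zero => rw [Submodule.coe_zero, map_zero]; exact zero_mem _
  | add x y _ _ hx hy => rw [Submodule.coe_add, map_add]; exact add_mem hx hy
  | smul t x _ hx => rw [SetLike.val_smul, map_smul]; exact Submodule.smul_mem _ t hx

/-- Contraction with a linear form. -/
def contr (p : ℕ) : ↥(⋀[B]^(p + 1) L) →ₗ[B] ↥(⋀[B]^p L) :=
  ((CliffordAlgebra.contractLeft (Q := (0 : QuadraticForm B L)) ℓ).comp
    (⋀[B]^(p + 1) L).subtype).codRestrict _ (contract_mem' ℓ p)

theorem contr_wedge_zero (a : L) (η : ↥(⋀[B]^0 L)) :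
    contr ℓ 0 (Conn.wedge 0 (one1 a) η) = ℓ a • η := by
  apply Subtype.ext
  show CliffordAlgebra.contractLeft (Q := (0 : QuadraticForm B L)) ℓ
    ((one1 (B := B) a : ExteriorAlgebra B L) * (η : ExteriorAlgebra B L)) = _
  have h0 : CliffordAlgebra.contractLeft (Q := (0 : QuadraticForm B L)) ℓ (η : ExteriorAlgebra B L) = 0 := by
    have h : (η : ↥(⋀[B]^0 L)) ∈ Submodule.span B (Set.range (ιMulti B 0 (M := L))) :=
      (ιMulti_span B 0 L).symm ▸ Submodule.mem_top
    induction h using Submodule.span_induction with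
    | mem x hx =>
      obtain ⟨v, rfl⟩ := hx
      rw [ιMulti_apply_coe, ExteriorAlgebra.ιMulti_zero_apply]
      exact CliffordAlgebra.contractLeft_one (Q := (0 : QuadraticForm B L)) (d := ℓ)
    | zero => rw [Submodule.coe_zero, map_zero]
    | add x y _ _ hx hy => rw [Submodule.coe_add, map_add, hx, hy, add_zero]
    | smul t x _ hx => rw [SetLike.val_smul, map_smul, hx, smul_zero]
  rw [coe_one1, contract_ι_mul, h0, mul_zero, sub_zero, SetLike.val_smul]

theorem contr_wedge_succ (p : ℕ) (a : L) (η : ↥(⋀[B]^(p + 1) L)) :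
    contr ℓ (p + 1) (Conn.wedge (p + 1) (one1 a) η) = ℓ a • η - Conn.wedge p (one1 a) (contr ℓ p η) := by
  apply Subtype.ext
  show CliffordAlgebra.contractLeft (Q := (0 : QuadraticForm B L)) ℓ
    ((one1 (B := B) a : ExteriorAlgebra B L) * (η : ExteriorAlgebra B L)) = _
  rw [coe_one1, contract_ι_mul, Submodule.coe_sub, SetLike.val_smul, Conn.wedge_apply_coe, coe_one1]
  rfl

theorem twedge_tmul_one1 (p : ℕ) (m : M) (a : L) (η : ↥(⋀[B]^p L)) :
    Conn.twedge p (m ⊗ₜ[B] one1 a) η = m ⊗ₜ[B] Conn.wedge p (one1 a) η :=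
  Conn.twedge_tmul p m _ η

variable (M) in
/-- The value of a vector valued one-form. -/
def ev1 : M ⊗[B] ↥(⋀[B]^1 L) →ₗ[B] M :=
  (TensorProduct.rid B M).toLinearMap.comp ((ℓ.comp (oneEquiv B L).toLinearMap).lTensor M)

theorem ev1_tmul (m : M) (a : L) : ev1 M ℓ (m ⊗ₜ[B] one1 a) = ℓ a • m := by
  simp [ev1, one1]

theorem contr_twedge_zero (α : M ⊗[B] ↥(⋀[B]^1 L)) (η : ↥(⋀[B]^0 L)) :
    (contr ℓ 0).lTensor M (Conn.twedge 0 α η) = ev1 M ℓ α ⊗ₜ[B] η := by
  induction α with
  | zero => simp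
  | tmul m α =>
    obtain ⟨a, rfl⟩ := exists_one1 α
    rw [twedge_tmul_one1, LinearMap.lTensor_tmul, contr_wedge_zero, ev1_tmul, smul_tmul]
  | add x y hx hy => rw [map_add, LinearMap.add_apply, map_add, hx, hy, map_add, add_tmul]

theorem contr_twedge_succ (p : ℕ) (α : M ⊗[B] ↥(⋀[B]^1 L)) (η : ↥(⋀[B]^(p + 1) L)) :
    (contr ℓ (p + 1)).lTensor M (Conn.twedge (p + 1) α η) =
      ev1 M ℓ α ⊗ₜ[B] η - Conn.twedge p α (contr ℓ p η) := by
  induction α with
  | zero => simp
  | tmul m α =>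
    obtain ⟨a, rfl⟩ := exists_one1 α
    rw [twedge_tmul_one1, LinearMap.lTensor_tmul, contr_wedge_succ, ev1_tmul, twedge_tmul_one1, tmul_sub,
      smul_tmul]
  | add x y hx hy =>
    rw [map_add, LinearMap.add_apply, map_add, hx, hy, map_add, add_tmul, map_add, LinearMap.add_apply]
    abel

variable {σ : Type u} (w : Module.Basis σ B L)

/-- The wedge products of basis vectors. -/
def Wv {p : ℕ} (s : Fin p → σ) : ↥(⋀[B]^p L) := ιMulti B p fun j => w (s j)

theorem wedge_Wv {p : ℕ} (k : σ) (s : Fin p → σ) :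
    Conn.wedge p (one1 (w k)) (Wv w s) = Wv w (Fin.cons k s) := by
  rw [Wv, wedge_one1, Wv]
  congr 1
  funext j
  refine Fin.cases ?_ (fun i => ?_) j <;> simp

theorem wedge_Wv_self {p : ℕ} (j : Fin p) (s : Fin p → σ) :
    Conn.wedge p (one1 (w (s j))) (Wv w s) = 0 := by
  rw [wedge_Wv]
  exact AlternatingMap.map_eq_zero_of_eq _ _ (i := 0) (j := j.succ) (by simp) (Fin.succ_ne_zero j).symm

/-- Combinations of wedge products of basis vectors with integer coefficients. -/
def consts (p : ℕ) : AddSubgroup ↥(⋀[B]^p L) :=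
  AddSubgroup.closure (Set.range fun s : Fin p → σ => Wv w s)

theorem contr_Wv_mem [DecidableEq σ] (i : σ) : ∀ (p : ℕ) (s : Fin (p + 1) → σ),
    contr (w.coord i) p (Wv w s) ∈ consts w p := by
  intro p
  have hs : ∀ {p : ℕ} (s : Fin (p + 1) → σ), Wv w s = Conn.wedge p (one1 (w (s 0))) (Wv w (Fin.tail s)) :=
    fun {p} s => by rw [wedge_Wv, Fin.cons_self_tail]
  have hc : ∀ (k : σ) {q : ℕ} (x : ↥(⋀[B]^q L)), x ∈ consts w q → w.coord i (w k) • x ∈ consts w q :=
    fun k q x hx => by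
      rw [Module.Basis.coord_apply, w.repr_self]
      by_cases h : k = i
      · subst h; rw [Finsupp.single_eq_same, one_smul]; exact hx
      · rw [Finsupp.single_eq_of_ne (Ne.symm h), zero_smul]; exact zero_mem _
  induction p with
  | zero =>
    intro s
    rw [hs, contr_wedge_zero]
    exact hc _ _ (AddSubgroup.subset_closure ⟨_, rfl⟩)
  | succ p ih =>
    intro s
    rw [hs, contr_wedge_succ]
    refine sub_mem (hc _ _ (AddSubgroup.subset_closure ⟨_, rfl⟩)) ?_
    let h : ↥(⋀[B]^p L) →+ ↥(⋀[B]^(p + 1) L) := (Conn.wedge p (one1 (w (s 0)))).toAddMonoidHom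
    have : consts w p ≤ (consts w (p + 1)).comap h := (AddSubgroup.closure_le _).2 (by
      rintro _ ⟨t, rfl⟩
      show Conn.wedge p (one1 (w (s 0))) (Wv w t) ∈ consts w (p + 1)
      rw [wedge_Wv]
      exact AddSubgroup.subset_closure ⟨_, rfl⟩)
    exact AddSubgroup.mem_comap.1 (this (ih (Fin.tail s)))

theorem span_Wv (p : ℕ) : Submodule.span B (Set.range fun s : Fin p → σ => Wv w s) = ⊤ := by
  rw [eq_top_iff, ← ιMulti_span_of_span B p L w.span_eq]
  refine Submodule.span_le.2 ?_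
  rintro _ ⟨a, ha, rfl⟩
  choose s hs using fun j => ha (Set.mem_range_self j)
  exact Submodule.subset_span ⟨s, congrArg (ιMulti B p) (funext hs)⟩

theorem exists_sum_tmul (p : ℕ) (x : M ⊗[B] ↥(⋀[B]^p L)) :
    x ∈ AddSubgroup.closure {y | ∃ (e : M) (s : Fin p → σ), y = e ⊗ₜ[B] Wv w s} := by
  induction x with
  | zero => exact zero_mem _
  | tmul m η =>
    have hη : η ∈ Submodule.span B (Set.range fun s : Fin p → σ => Wv w s) := (span_Wv w p).symm ▸ Submodule.mem_top
    induction hη using Submodule.span_induction generalizing m with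
    | mem y hy => obtain ⟨s, rfl⟩ := hy; exact AddSubgroup.subset_closure ⟨m, s, rfl⟩
    | zero => rw [tmul_zero]; exact zero_mem _
    | add y z _ _ hy hz => rw [tmul_add]; exact add_mem (hy m) (hz m)
    | smul t y _ hy => rw [← smul_tmul]; exact hy (t • m)
  | add x y hx hy => exact add_mem hx hy

variable [LinearOrder σ]

/-- Coefficients in the basis of `p`-forms. -/
def coef (p : ℕ) : M ⊗[B] ↥(⋀[B]^p L) ≃ₗ[B] (Set.powersetCard σ p →₀ M) :=
  TensorProduct.equivFinsuppOfBasisRight (w.exteriorPower p)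

theorem coef_single {p : ℕ} (s : Set.powersetCard σ p) (e : M) :
    (coef w p).symm (Finsupp.single s e) = e ⊗ₜ[B] Wv w (Set.powersetCard.ofFinEmbEquiv.symm s) := by
  rw [coef, TensorProduct.equivFinsuppOfBasisRight_symm_apply]
  refine (Finsupp.sum_single_index (by simp)).trans ?_
  rw [exteriorPower.basis_apply]
  rfl

end Groth.Agent.LogNCD2
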