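import Groth.Agent.LogNCD2.TwResidue
import Groth.Agent.LogNCD2.Ambient
import Groth.Agent.LogNCD2.Free

/-!
Logarithmic de Rham complexes of twists, locally in charts.
-/

universe u

open CategoryTheory CategoryTheory.Limits AlgebraicGeometry TopologicalSpace Opposite exteriorPower TensorProduct

noncomputable section

namespace Groth.Agent.LogNCD2

set_option backward.isDefEq.respectTransparency false
set_option backward.isDefEq.respectTransparency.types false

variable {X S : Scheme.{u}} {f : X ⟶ S} {Ω' : X.Modules} {d : OmegaSh.Der f Ω'} {r : ℕ}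
  {D : Fin r → X.IdealSheafData}

theorem map_id' {M : X.Modules} (U : X.Opens) (h : U ≤ U) (x : Γ(M, U)) :
    M.presheaf.map (homOfLE h).op x = x :=
  congr(($(M.presheaf.map_id (op U))) x)

theorem map_map' {M : X.Modules} {U V W : X.Opens} (h : V ≤ U) (h' : W ≤ V) (x : Γ(M, U)) :
    M.presheaf.map (homOfLE h').op (M.presheaf.map (homOfLE h).op x) = M.presheaf.map (homOfLE (h'.trans h)).op x := by
  rw [← ConcreteCategory.comp_apply, ← M.presheaf.map_comp]
  rfl

theorem regular_of_basis {B M : Type*} [CommRing B] [AddCommGroup M] [Module B M] {ι : Type*}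
    (b : Module.Basis ι B M) {g : B} (hg : IsSMulRegular B g) : IsSMulRegular M g := fun x y h => by
  refine b.repr.injective (Finsupp.ext fun i => hg ?_)
  have := congrArg (fun z => b.repr z i) h
  simpa using this

section Log

variable (Λ : LogNCD.LogMod d D) {V : X.affineOpens} (C : ChartOn d (D := D) V) (Ld : DL Λ V C.g)

open Classical in
/-- The component through a coordinate. -/
def pOf (k : C.σ) : Option (Fin r) := if h : ∃ i, C.idx i = some k then some h.choose else none

theorem pOf_eq_some {i : Fin r} {k : C.σ} (h : C.idx i = some k) : pOf C k = some i := by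
  classical
  have h' : ∃ i, C.idx i = some k := ⟨i, h⟩
  rw [pOf, dif_pos h']
  exact congrArg some (C.idx_inj _ _ _ h'.choose_spec h)

theorem idx_of_pOf {i : Fin r} {k : C.σ} (h : pOf C k = some i) : C.idx i = some k := by
  classical
  unfold pOf at h
  split_ifs at h with h'
  obtain rfl := Option.some.inj h
  exact h'.choose_spec

/-- The logarithmic coordinate forms. -/
def wOf (k : C.σ) : Γ(Λ.L, V.1) := (pOf C k).elim (Λ.ι.app V.1 (C.b k)) Ld.dl

/-- Functions whose differentials are the forms. -/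
def vOf (k : C.σ) : Γ(X, V.1) := (pOf C k).elim (C.coord k).choose C.g

/-- Their denominators. -/
def cOf (k : C.σ) : Γ(X, V.1) := (pOf C k).elim 1 C.g

theorem cOf_smul (k : C.σ) : cOf C k • wOf Λ C Ld k = (LogNCD.der Λ).app V.1 (vOf C k) := by
  unfold cOf wOf vOf
  cases hk : pOf C k with
  | none => exact (one_smul _ _).trans (congrArg (Λ.ι.app V.1) (C.coord k).choose_spec)
  | some i => exact Ld.smul_dl i

theorem der_cOf (k : C.σ) : ∃ t : Γ(X, V.1), (LogNCD.der Λ).app V.1 (cOf C k) = t • wOf Λ C Ld k := by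
  unfold cOf wOf
  cases hk : pOf C k with
  | none => exact ⟨0, ((LogNCD.der Λ).d_one _).trans (zero_smul _ _).symm⟩
  | some i => exact ⟨C.g i, (Ld.smul_dl i).symm⟩

theorem exists_logBasis (W : X.affineOpens) (h : W.1 ≤ V.1)
    (hreg : ∀ i, IsSMulRegular Γ(X, W.1) (X.presheaf.map (homOfLE h).op (C.g i))) :
    ∃ w : Module.Basis C.σ Γ(X, W.1) Γ(Λ.L, W.1), ∀ k, w k = Λ.L.presheaf.map (homOfLE h).op (wOf Λ C Ld k) := by
  let := C.fin
  obtain ⟨b', hb'⟩ := C.basis_res W h
  obtain ⟨L'⟩ := nonempty_dl Λ fun i => span_res h (C.gen i)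
  let w : C.σ → Γ(Λ.L, W.1) := fun k => Λ.L.presheaf.map (homOfLE h).op (wOf Λ C Ld k)
  have hbij := bijective_log (appLin Λ.ι W.1) (ι_injective Λ W.1) b' (pOf C)
    (fun i => X.presheaf.map (homOfLE h).op (C.g i))
    (fun i => d.app W.1 (X.presheaf.map (homOfLE h).op (C.g i))) hreg
    (fun k i hk => by rw [hb' k, C.idx_some i k (idx_of_pOf C hk), res_d])
    (fun i => by
      cases hi : C.idx i with
      | some k => exact Or.inl ⟨k, pOf_eq_some C hi⟩
      | none => exact Or.inr ⟨by rw [C.idx_none i hi, map_one], by rw [C.idx_none i hi, map_one]; exact d.d_one _⟩)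
    L'.dl L'.smul_dl L'.exists_eq w
    (fun k hk => by
      show Λ.L.presheaf.map (homOfLE h).op (wOf Λ C Ld k) = _
      rw [wOf, hk, Option.elim_none, ← QCoh.map_app_comm, ← hb' k]
      rfl)
    (fun k i hk => by
      show Λ.L.presheaf.map (homOfLE h).op (wOf Λ C Ld k) = _
      rw [wOf, hk, Option.elim_some]
      exact dl_res Λ h C.gen Ld L' i)
  refine ⟨Module.Basis.ofEquivFun
    (LinearEquiv.ofBijective (Fintype.linearCombination Γ(X, W.1) w) hbij).symm, fun k => ?_⟩
  classical
  rw [Module.Basis.coe_ofEquivFun]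
  simp [Fintype.linearCombination_apply_single, w]

/-- The adapted coordinates on an affine open of the chart. -/
def adaptedW (W : X.affineOpens) (h : W.1 ≤ V.1) (w : Module.Basis C.σ Γ(X, W.1) Γ(Λ.L, W.1))
    (hw : ∀ k, w k = Λ.L.presheaf.map (homOfLE h).op (wOf Λ C Ld k)) : Adapted (LogNCD.der Λ) W where
  σ := C.σ
  w := w
  v k := X.presheaf.map (homOfLE h).op (vOf C k)
  c k := X.presheaf.map (homOfLE h).op (cOf C k)
  hc k := by
    rw [hw, ← Scheme.Modules.map_smul, cOf_smul]
    exact (Groth.Agent.Synt29.OmegaStalk.app_res _ (LogNCD.der Λ) (homOfLE h) _).symm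
  hδc k := by
    obtain ⟨t, ht⟩ := der_cOf Λ C Ld k
    refine ⟨X.presheaf.map (homOfLE h).op t, ?_⟩
    rw [hw, ← Scheme.Modules.map_smul, ← ht]
    exact Groth.Agent.Synt29.OmegaStalk.app_res _ (LogNCD.der Λ) (homOfLE h) _

end Log

variable {Λ : LogNCD.LogMod d D} {E : X.Modules} {nabla : Coh.toAb E ⟶ Coh.toAb (CohB1.tensorMod E Λ.L)}
  (K : ConnSh.Cx (LogNCD.der Λ) E nabla)

/-- The twisting data of a chart. -/
structure IsChartTwist (V : X.affineOpens) {σ : Type u} (T : Twist Γ(X, V.1) Γ(E, V.1) Γ(Λ.L, V.1) σ r) : Prop where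
  δ_eq : ∀ t, T.δ t = (LogNCD.der Λ).app V.1 t
  N_eq : ∀ e, T.N e = NE K V e
  d_eq : ∀ p x, T.d p x = dK K p V x
  gen : ∀ i, (D i).ideal V = Ideal.span {T.g i}
  res : ∀ i k, (∀ j, T.w.coord k (T.dl j) = if j = i then 1 else 0) → ∀ x,
    (Λ.res i).app V.1 x = T.w.coord k x • (LogNCD.oneOn (D i) V.1 : Γ(ClSub.quotMod (D i), V.1))
  basis : ∃ n, Nonempty (Module.Basis (Fin n) Γ(X, V.1) Γ(E, V.1))

set_option maxHeartbeats 1000000 in
theorem exists_chartTwist (hc : ConnSh.IsConn (LogNCD.der Λ) E nabla) {V : X.affineOpens}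
    (C : ChartOn d (D := D) V) {U₁ : X.Opens} {n : ℕ} (s : Fin n → Γ(E, U₁)) (hs : H23.Frame.IsFrame E s)
    (hV : V.1 ≤ U₁) :
    ∃ (σ : Type u) (_ : LinearOrder σ) (T : Twist Γ(X, V.1) Γ(E, V.1) Γ(Λ.L, V.1) σ r),
      IsChartTwist K V T := by
  classical
  let := C.fin
  let inst : LinearOrder C.σ := LinearOrder.lift' (Fintype.equivFin C.σ) (Equiv.injective _)
  obtain ⟨Ld⟩ := nonempty_dl Λ C.gen
  obtain ⟨w, hw⟩ := exists_logBasis Λ C Ld V le_rfl fun i => by
    rw [show X.presheaf.map (homOfLE (le_refl V.1)).op (C.g i) = C.g i from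
      congr(($(X.presheaf.map_id (op V.1))) (C.g i))]
    exact C.reg i
  have hw' : ∀ k, w k = wOf Λ C Ld k := fun k => (hw k).trans (map_id' V.1 le_rfl _)
  let P := ∏ i, C.g i
  let W : X.affineOpens := X.affineBasicOpen P
  have hW : W.1 ≤ V.1 := X.basicOpen_le P
  have hu : ∀ i, IsUnit (X.presheaf.map (homOfLE hW).op (C.g i)) := fun i => by
    have hP : IsUnit (X.presheaf.map (homOfLE hW).op P) :=
      RingedSpace.isUnit_res_basicOpen X.toLocallyRingedSpace.toRingedSpace P
    rw [map_prod, IsUnit.prod_iff] at hP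
    exact hP i (Finset.mem_univ i)
  obtain ⟨wW, hwW⟩ := exists_logBasis Λ C Ld W hW fun i => (hu i).isSMulRegular _
  let A := adaptedW Λ C Ld W hW wW hwW
  have huA : ∀ k, IsUnit (A.c k) := fun k => by
    show IsUnit (X.presheaf.map (homOfLE hW).op (cOf C k))
    unfold cOf
    cases hk : pOf C k with
    | none => rw [Option.elim_none, map_one]; exact isUnit_one
    | some i => exact hu i
  obtain ⟨bE, hbE⟩ := comb_basis hs V.1 hV
  obtain ⟨bW, hbW⟩ := comb_basis hs W.1 (hW.trans hV)
  have hreg : IsSMulRegular Γ(X, V.1) P := by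
    suffices h : ∀ t : Finset (Fin r), IsSMulRegular Γ(X, V.1) (∏ i ∈ t, C.g i) from h Finset.univ
    intro t
    induction t using Finset.induction_on with
    | empty => simp
    | @insert j t hj ih => rw [Finset.prod_insert hj]; exact (C.reg j).mul ih
  have hX : Function.Injective (X.presheaf.map (homOfLE hW).op) := by
    refine (injective_iff_map_eq_zero _).2 fun a ha => ?_
    let := (X.presheaf.map (homOfLE hW).op).hom.toAlgebra
    have : IsLocalization.Away P Γ(X, X.basicOpen P) := V.2.isLocalization_basicOpen P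
    obtain ⟨⟨_, N, rfl⟩, hN⟩ :=
      (IsLocalization.map_eq_zero_iff (Submonoid.powers P) Γ(X, X.basicOpen P) a).1 ha
    exact hreg.pow N (by simp only [smul_eq_mul, mul_zero]; exact hN)
  have hdl : ∀ i, C.idx i = none → Ld.dl i = 0 := fun i hi => by
    have := Ld.smul_dl i
    rw [C.idx_none i hi, one_smul, show d.app V.1 (1 : Γ(X, V.1)) = 0 from d.d_one _, map_zero] at this
    exact this
  have hcoord : ∀ i k₀, C.idx i = some k₀ → ∀ j, w.coord k₀ (Ld.dl j) = if j = i then 1 else 0 := by
    intro i k₀ hi j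
    cases hj : C.idx j with
    | none =>
      rw [hdl j hj, map_zero, if_neg]
      rintro rfl
      rw [hi] at hj
      exact Option.some_ne_none _ hj
    | some k =>
      have : w k = Ld.dl j := by rw [hw', wOf, pOf_eq_some C hj, Option.elim_some]
      rw [← this, Module.Basis.coord_apply, Module.Basis.repr_self, Finsupp.single_apply]
      by_cases hji : j = i
      · rw [if_pos hji, if_pos]
        subst hji
        exact Option.some.inj (hj.symm.trans hi)
      · rw [if_neg hji, if_neg]
        rintro rfl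
        exact hji (C.idx_inj j i k hj hi)
  let T : Twist Γ(X, V.1) Γ(E, V.1) Γ(Λ.L, V.1) C.σ r :=
    { w := w
      δ := (LogNCD.der Λ).app V.1
      δ_mul := der_mul V.1
      N := NE K V
      N_smul := NE_smul K hc V
      d := fun p => dK K p V
      d_Wv := fun p e s => dK_Wv K hc hW A huA (fun k => w k)
        (fun k => by rw [hw' k]; exact hwW k)
        (resT_injective K hW w wW (fun k => by rw [hw' k]; exact hwW k) bE bW
          (fun k => by rw [hbW k, hbE k, map_map']) hX (p + 1)) e s
      d_d := fun p x => dK_dK K p V x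
      g := C.g
      dl := Ld.dl
      δ_g := fun j => (Ld.smul_dl j).symm
      reg := fun j => regular_of_basis bE (C.reg j)
      adapted := fun i => by
        cases hi : C.idx i with
        | none => exact Or.inl (C.idx_none i hi)
        | some k₀ => exact Or.inr ⟨k₀, hcoord i k₀ hi⟩ }
  refine ⟨C.σ, inst, T, fun _ => rfl, fun _ => rfl, fun _ _ => rfl, C.gen, fun i k hk x => ?_, n, ⟨bE⟩⟩
  change ∀ j, w.coord k (Ld.dl j) = if j = i then 1 else 0 at hk
  have htriv : (0 : Γ(X, V.1)) = 1 → (Λ.res i).app V.1 x =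
      w.coord k x • (LogNCD.oneOn (D i) V.1 : Γ(ClSub.quotMod (D i), V.1)) := fun h => by
    have hz : ∀ z : Γ(ClSub.quotMod (D i), V.1), z = 0 := fun z => by
      rw [← one_smul Γ(X, V.1) z, ← h, zero_smul]
    exact (hz _).trans (hz _).symm
  cases hi : C.idx i with
  | none =>
    refine htriv ?_
    have := hk i
    rwa [hdl i hi, map_zero, if_pos rfl] at this
  | some k₀ =>
    have h1 : w k₀ = Ld.dl i := by rw [hw', wOf, pOf_eq_some C hi, Option.elim_some]
    have h2 := hk i
    rw [← h1, Module.Basis.coord_apply, Module.Basis.repr_self, if_pos rfl, Finsupp.single_apply] at h2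
    by_cases hkk : k₀ = k
    swap
    · rw [if_neg hkk] at h2
      exact htriv h2
    subst hkk
    let φ : Γ(Λ.L, V.1) →ₗ[Γ(X, V.1)] Γ(ClSub.quotMod (D i), V.1) := appLin (Λ.res i) V.1
    let φ' : Γ(Λ.L, V.1) →ₗ[Γ(X, V.1)] Γ(ClSub.quotMod (D i), V.1) :=
      (w.coord k₀).smulRight (LogNCD.oneOn (D i) V.1 : Γ(ClSub.quotMod (D i), V.1))
    have : φ = φ' := w.ext fun j => by
      show (Λ.res i).app V.1 (w j) = w.coord k₀ (w j) • _
      rw [Module.Basis.coord_apply, Module.Basis.repr_self, Finsupp.single_apply, hw', wOf]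
      cases hj : pOf C j with
      | none =>
        have hne : j ≠ k₀ := by
          rintro rfl
          rw [pOf_eq_some C hi] at hj
          exact Option.some_ne_none _ hj
        rw [Option.elim_none, res_ι_app, if_neg hne, zero_smul]
      | some l =>
        rw [Option.elim_some]
        by_cases hl : l = i
        · subst hl
          rw [if_pos (Option.some.inj ((idx_of_pOf C hj).symm.trans hi)), Ld.res_self, one_smul]
        · have hne : j ≠ k₀ := fun h => hl (C.idx_inj l i k₀ (h ▸ idx_of_pOf C hj) hi)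
          rw [if_neg hne, Ld.res_ne l i hl, zero_smul]
    exact LinearMap.congr_fun this x

end Groth.Agent.LogNCD2
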