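import Groth.Agent.LogNCD2.TwAlg
import Mathlib.Algebra.BigOperators.Pi

/-!
The subcomplex of twisted sections is quasi-isomorphic to the logarithmic de Rham complex when the residues allow it.
-/

universe u

open TensorProduct exteriorPower

noncomputable section

namespace Groth.Agent.LogNCD2

variable (B : Type u) [CommRing B] (M L : Type u) [AddCommGroup M] [Module B M] [AddCommGroup L] [Module B L]

/-- A logarithmic de Rham complex in a chart. -/
structure Twist (σ : Type u) (r : ℕ) where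
  w : Module.Basis σ B L
  δ : B →+ L
  δ_mul : ∀ a b, δ (a * b) = a • δ b + b • δ a
  N : M →+ M ⊗[B] ↥(⋀[B]^1 L)
  N_smul : ∀ (t : B) (e : M), N (t • e) = t • N e + e ⊗ₜ[B] one1 (δ t)
  d : ∀ p, M ⊗[B] ↥(⋀[B]^p L) →+ M ⊗[B] ↥(⋀[B]^(p + 1) L)
  d_Wv : ∀ p (e : M) (s : Fin p → σ), d p (e ⊗ₜ[B] Wv w s) = Conn.twedge p (N e) (Wv w s)
  d_d : ∀ p x, d (p + 1) (d p x) = 0
  g : Fin r → B
  dl : Fin r → L
  δ_g : ∀ j, δ (g j) = g j • dl j
  reg : ∀ j, IsSMulRegular M (g j)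
  adapted : ∀ i, g i = 1 ∨ ∃ k, ∀ j, w.coord k (dl j) = if j = i then 1 else 0

variable {B M L} {σ : Type u} {r : ℕ} (T : Twist B M L σ r)

namespace Twist

/-- The equation of a multiple of the divisor. -/
def Q (μ : Fin r → ℕ) : B := ∏ j, T.g j ^ μ j

/-- Its logarithmic differential. -/
def dlQ (μ : Fin r → ℕ) : L := ∑ j, μ j • T.dl j

theorem δ_one : T.δ 1 = 0 := by
  have h := T.δ_mul 1 1
  rw [mul_one, one_smul] at h
  exact left_eq_add.1 h

theorem δ_pow (j : Fin r) : ∀ m : ℕ, T.δ (T.g j ^ m) = T.g j ^ m • (m • T.dl j) := by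
  intro m
  induction m with
  | zero => rw [pow_zero, T.δ_one, zero_smul, smul_zero]
  | succ m ih =>
    rw [pow_succ, T.δ_mul, T.δ_g, ih, smul_smul, smul_smul, mul_comm (T.g j) (T.g j ^ m), ← smul_add,
      succ_nsmul, add_comm]

theorem δ_Q (μ : Fin r → ℕ) : T.δ (T.Q μ) = T.Q μ • T.dlQ μ := by
  classical
  suffices h : ∀ s : Finset (Fin r), T.δ (∏ j ∈ s, T.g j ^ μ j) = (∏ j ∈ s, T.g j ^ μ j) • ∑ j ∈ s, μ j • T.dl j from
    h Finset.univ
  intro s
  induction s using Finset.induction_on with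
  | empty => simp [T.δ_one]
  | @insert j s hj ih =>
    rw [Finset.prod_insert hj, Finset.sum_insert hj, T.δ_mul, ih, T.δ_pow, smul_smul, smul_smul,
      mul_comm (∏ j ∈ s, T.g j ^ μ j) (T.g j ^ μ j), ← smul_add, add_comm]

theorem reg_Q (μ : Fin r → ℕ) : IsSMulRegular M (T.Q μ) := by
  classical
  suffices h : ∀ s : Finset (Fin r), IsSMulRegular M (∏ j ∈ s, T.g j ^ μ j) from h Finset.univ
  intro s
  induction s using Finset.induction_on with
  | empty => simp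
  | @insert j s hj ih => rw [Finset.prod_insert hj]; exact ((T.reg j).pow _).mul ih

theorem Q_add (μ : Fin r → ℕ) (i : Fin r) : T.Q (μ + Pi.single i 1) = T.Q μ * T.g i := by
  classical
  simp only [Q, Pi.add_apply, pow_add, Finset.prod_mul_distrib]
  congr 1
  rw [Finset.prod_eq_single i (fun j _ hj => by rw [Pi.single_eq_of_ne hj, pow_zero])
    (fun h => absurd (Finset.mem_univ i) h), Pi.single_eq_same, pow_one]

theorem d_smul_tmul (μ : Fin r → ℕ) {p : ℕ} (e : M) (s : Fin p → σ) :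
    T.d p (T.Q μ • (e ⊗ₜ[B] Wv T.w s)) =
      T.Q μ • (Conn.twedge p (T.N e) (Wv T.w s) + e ⊗ₜ[B] Conn.wedge p (one1 (T.dlQ μ)) (Wv T.w s)) := by
  rw [smul_tmul', T.d_Wv, T.N_smul, map_add, LinearMap.add_apply, map_smul, LinearMap.smul_apply,
    twedge_tmul_one1, T.δ_Q, one1_smul, map_smul, LinearMap.smul_apply, tmul_smul, smul_add]

theorem d_mem (μ : Fin r → ℕ) {p : ℕ} (x : M ⊗[B] ↥(⋀[B]^p L)) :
    ∃ y, T.d p (T.Q μ • x) = T.Q μ • y := by
  have h := exists_sum_tmul T.w p x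
  induction h using AddSubgroup.closure_induction with
  | mem x hx => obtain ⟨e, s, rfl⟩ := hx; exact ⟨_, T.d_smul_tmul μ e s⟩
  | zero => exact ⟨0, by rw [smul_zero, smul_zero, map_zero]⟩
  | add x y _ _ hx hy =>
    obtain ⟨a, ha⟩ := hx
    obtain ⟨b, hb⟩ := hy
    exact ⟨a + b, by rw [smul_add, map_add, ha, hb, smul_add]⟩
  | neg x _ hx => obtain ⟨a, ha⟩ := hx; exact ⟨-a, by rw [smul_neg, map_neg, ha, smul_neg]⟩

variable (k : σ)

/-- The residue along the coordinate. -/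
def Rh : M →+ M := (ev1 M (T.w.coord k)).toAddMonoidHom.comp T.N

theorem Rh_smul (t : B) (e : M) : T.Rh k (t • e) = t • T.Rh k e + T.w.coord k (T.δ t) • e := by
  show ev1 M (T.w.coord k) (T.N (t • e)) = _
  rw [T.N_smul, map_add, map_smul, ev1_tmul]
  rfl

/-- Contraction with the coordinate. -/
def hop (p : ℕ) : M ⊗[B] ↥(⋀[B]^(p + 1) L) →ₗ[B] M ⊗[B] ↥(⋀[B]^p L) :=
  (contr (T.w.coord k) p).lTensor M

/-- `d h + h d`. -/
def Rt : ∀ p : ℕ, M ⊗[B] ↥(⋀[B]^p L) →+ M ⊗[B] ↥(⋀[B]^p L)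
  | 0 => (T.hop k 0).toAddMonoidHom.comp (T.d 0)
  | p + 1 => (T.d p).comp (T.hop k p).toAddMonoidHom + (T.hop k (p + 1)).toAddMonoidHom.comp (T.d (p + 1))

theorem Rt_comm : ∀ (p : ℕ) (x : M ⊗[B] ↥(⋀[B]^p L)), T.Rt k (p + 1) (T.d p x) = T.d p (T.Rt k p x)
  | 0, x => by
    show T.d 0 (T.hop k 0 (T.d 0 x)) + T.hop k 1 (T.d 1 (T.d 0 x)) = T.d 0 (T.hop k 0 (T.d 0 x))
    rw [T.d_d, map_zero, add_zero]
  | p + 1, x => by
    show T.d (p + 1) (T.hop k (p + 1) (T.d (p + 1) x)) + T.hop k (p + 2) (T.d (p + 2) (T.d (p + 1) x)) =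
      T.d (p + 1) (T.d p (T.hop k p x) + T.hop k (p + 1) (T.d (p + 1) x))
    rw [T.d_d, map_zero, add_zero, map_add, T.d_d, zero_add]

theorem d_const {p : ℕ} (e : M) {η : ↥(⋀[B]^p L)} (hη : η ∈ consts T.w p) :
    T.d p (e ⊗ₜ[B] η) = Conn.twedge p (T.N e) η := by
  induction hη using AddSubgroup.closure_induction with
  | mem x hx => obtain ⟨s, rfl⟩ := hx; exact T.d_Wv p e s
  | zero => rw [tmul_zero, map_zero, map_zero]
  | add x y _ _ hx hy => rw [tmul_add, map_add, map_add, hx, hy]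
  | neg x _ hx => rw [tmul_neg, map_neg, map_neg, hx]

theorem Rt_Wv : ∀ (p : ℕ) (e : M) (s : Fin p → σ), T.Rt k p (e ⊗ₜ[B] Wv T.w s) = T.Rh k e ⊗ₜ[B] Wv T.w s
  | 0, e, s => by
    show T.hop k 0 (T.d 0 (e ⊗ₜ[B] Wv T.w s)) = _
    rw [T.d_Wv]
    exact contr_twedge_zero _ _ _
  | p + 1, e, s => by
    classical
    show T.d p ((contr (T.w.coord k) p).lTensor M (e ⊗ₜ[B] Wv T.w s)) +
      (contr (T.w.coord k) (p + 1)).lTensor M (T.d (p + 1) (e ⊗ₜ[B] Wv T.w s)) = _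
    rw [LinearMap.lTensor_tmul, T.d_const e (contr_Wv_mem T.w k p s), T.d_Wv, contr_twedge_succ,
      add_sub_cancel]
    rfl

theorem Rt_smul_Wv (μ : Fin r → ℕ) {i : Fin r} (hk : ∀ j, T.w.coord k (T.dl j) = if j = i then 1 else 0)
    {p : ℕ} (e : M) (s : Fin p → σ) :
    T.Rt k p (T.Q μ • (e ⊗ₜ[B] Wv T.w s)) = T.Q μ • ((T.Rh k e + μ i • e) ⊗ₜ[B] Wv T.w s) := by
  rw [smul_tmul', T.Rt_Wv, T.Rh_smul, T.δ_Q, map_smul, dlQ, map_sum]
  have : ∑ j, T.w.coord k (μ j • T.dl j) = (μ i : B) := by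
    rw [Finset.sum_eq_single i (fun j _ hj => by rw [map_nsmul, hk, if_neg hj, smul_zero])
      (fun h => absurd (Finset.mem_univ i) h), map_nsmul, hk, if_pos rfl, nsmul_one]
  rw [this, smul_eq_mul, mul_smul, ← smul_add, Nat.cast_smul_eq_nsmul, smul_tmul']

variable [LinearOrder σ]

include T in
theorem regular_tensor (μ : Fin r → ℕ) (p : ℕ) : IsSMulRegular (M ⊗[B] ↥(⋀[B]^p L)) (T.Q μ) := by
  intro x y hxy
  refine (coef T.w p).injective (Finsupp.ext fun s => T.reg_Q μ ?_)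
  have h := congrArg (fun z => coef T.w p z s) hxy
  simpa only [map_smul, Finsupp.smul_apply] using h

/-- The residue shifted by `m` is bijective modulo `g i`. -/
def Bij (i : Fin r) (m : ℕ) : Prop :=
  (∀ e : M, ∃ e' c : M, e = (T.Rh k e' + m • e') + T.g i • c) ∧
    ∀ e c : M, T.Rh k e + m • e = T.g i • c → ∃ c', e = T.g i • c'

omit [LinearOrder σ] in
theorem exists_preimage (μ : Fin r → ℕ) {i : Fin r} (hk : ∀ j, T.w.coord k (T.dl j) = if j = i then 1 else 0)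
    (hb : T.Bij k i (μ i)) {p : ℕ} (u : M ⊗[B] ↥(⋀[B]^p L)) :
    ∃ u' c, T.Q μ • u = T.Rt k p (T.Q μ • u') + (T.Q μ * T.g i) • c := by
  have h := exists_sum_tmul T.w p u
  induction h using AddSubgroup.closure_induction with
  | mem x hx =>
    obtain ⟨e, s, rfl⟩ := hx
    obtain ⟨e', c, he⟩ := hb.1 e
    refine ⟨e' ⊗ₜ Wv T.w s, c ⊗ₜ Wv T.w s, ?_⟩
    rw [T.Rt_smul_Wv k μ hk, mul_smul, ← smul_add]
    congr 1
    rw [smul_tmul', ← add_tmul, ← he]
  | zero => exact ⟨0, 0, by simp⟩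
  | add x y _ _ hx hy =>
    obtain ⟨a, b, ha⟩ := hx
    obtain ⟨a', b', ha'⟩ := hy
    exact ⟨a + a', b + b', by rw [smul_add, ha, ha', smul_add, smul_add, map_add]; abel⟩
  | neg x _ hx =>
    obtain ⟨a, b, ha⟩ := hx
    exact ⟨-a, -b, by rw [smul_neg, ha, smul_neg, smul_neg, map_neg]; abel⟩

theorem mem_of_Rt_mem (μ : Fin r → ℕ) {i : Fin r} (hk : ∀ j, T.w.coord k (T.dl j) = if j = i then 1 else 0)
    (hb : T.Bij k i (μ i)) {p : ℕ} (f c : M ⊗[B] ↥(⋀[B]^p L))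
    (h : T.Rt k p (T.Q μ • f) = (T.Q μ * T.g i) • c) : ∃ c', f = T.g i • c' := by
  classical
  obtain ⟨F, rfl⟩ : ∃ F, (coef T.w p).symm F = f := ⟨_, (coef T.w p).symm_apply_apply f⟩
  let Rμ : M →+ M := T.Rh k + μ i • AddMonoidHom.id M
  have key : T.Rt k p (T.Q μ • (coef T.w p).symm F) =
      T.Q μ • (coef T.w p).symm (F.mapRange Rμ (map_zero _)) := by
    clear h
    induction F using Finsupp.induction_linear with
    | zero => simp
    | add a b ha hb =>
      rw [map_add, smul_add, map_add, ha, hb, Finsupp.mapRange_add (fun x y => map_add Rμ x y), map_add, smul_add]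
    | single s e =>
      rw [Finsupp.mapRange_single, coef_single, coef_single]
      exact T.Rt_smul_Wv k μ hk e _
  rw [key, mul_smul] at h
  have h' := congrArg (coef T.w p) (T.regular_tensor μ p h)
  rw [LinearEquiv.apply_symm_apply, map_smul] at h'
  have hs : ∀ s, ∃ c', F s = T.g i • c' := fun s => hb.2 (F s) (coef T.w p c s) (by
    have := DFunLike.congr_fun h' s
    rwa [Finsupp.mapRange_apply, Finsupp.smul_apply] at this)
  choose C hC using hs
  refine ⟨(coef T.w p).symm (Finsupp.onFinset F.support (fun s => if s ∈ F.support then C s else 0)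
    fun s hs => by by_contra hn; exact hs (if_neg hn)), ?_⟩
  rw [← map_smul]
  congr 1
  refine Finsupp.ext fun s => ?_
  rw [Finsupp.smul_apply, Finsupp.onFinset_apply]
  by_cases hs : s ∈ F.support
  · rw [if_pos hs, hC s]
  · rw [if_neg hs, smul_zero, Finsupp.notMem_support_iff.1 hs]

/-- The hypothesis on the residues along the multiples between `0` and `ν`. -/
def Good (ν : Fin r → ℕ) : Prop :=
  ∀ (i : Fin r) (k : σ), (∀ j, T.w.coord k (T.dl j) = if j = i then 1 else 0) → ∀ m < ν i, T.Bij k i m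

/-- Exact multiples: a boundary plus an element of the subcomplex. -/
def Split (q : B) : ∀ p : ℕ, M ⊗[B] ↥(⋀[B]^p L) → Prop
  | 0, y => ∃ u, y = q • u
  | p + 1, y => ∃ v u, y = T.d p v + q • u

omit [LinearOrder σ] in
theorem step_split {q q' : B} {p : ℕ} {y : M ⊗[B] ↥(⋀[B]^p L)} (h : T.Split q p y)
    (h' : ∀ u, (∃ c, T.d p (q • u) = T.d p y + 0 • c) → T.Split q' p (q • u)) : T.Split q' p y := by
  cases p with
  | zero =>
    obtain ⟨u, rfl⟩ := h
    exact h' u ⟨0, by rw [smul_zero, add_zero]⟩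
  | succ p =>
    obtain ⟨v, u, rfl⟩ := h
    obtain ⟨v', u', hu'⟩ := h' u ⟨0, by rw [smul_zero, add_zero, map_add, T.d_d, zero_add]⟩
    exact ⟨v + v', u', by rw [hu', map_add, add_assoc]⟩

theorem split_step (μ : Fin r → ℕ) (i : Fin r)
    (hb : ∀ k, (∀ j, T.w.coord k (T.dl j) = if j = i then 1 else 0) → T.Bij k i (μ i))
    {p : ℕ} (u : M ⊗[B] ↥(⋀[B]^p L)) (hu : ∃ c, T.d p (T.Q μ • u) = (T.Q μ * T.g i) • c) :
    T.Split (T.Q μ * T.g i) p (T.Q μ • u) := by
  rcases T.adapted i with hg | ⟨k, hk⟩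
  · rw [hg, mul_one]
    cases p with
    | zero => exact ⟨u, rfl⟩
    | succ p => exact ⟨0, u, by rw [map_zero, zero_add]⟩
  obtain ⟨c₀, hc₀⟩ := hu
  obtain ⟨u', c, he⟩ := T.exists_preimage k μ hk (hb k hk) u
  obtain ⟨f, hf⟩ := T.d_mem μ u'
  obtain ⟨a, ha⟩ := T.d_mem (μ + Pi.single i 1) c
  rw [Q_add] at ha
  have hR : T.Rt k (p + 1) (T.Q μ • f) = (T.Q μ * T.g i) • (c₀ - a) := by
    rw [← hf, T.Rt_comm, smul_sub, ← hc₀, ← ha, ← map_sub, he, add_sub_cancel_right]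
  obtain ⟨f', hf'⟩ := T.mem_of_Rt_mem k μ hk (hb k hk) f _ hR
  have hh : T.hop k p (T.d p (T.Q μ • u')) = (T.Q μ * T.g i) • T.hop k p f' := by
    rw [hf, hf', map_smul, map_smul, smul_smul]
  cases p with
  | zero =>
    refine ⟨T.hop k 0 f' + c, ?_⟩
    rw [he, smul_add]
    exact congrArg (· + _) hh
  | succ p =>
    refine ⟨T.hop k p (T.Q μ • u'), T.hop k (p + 1) f' + c, ?_⟩
    rw [he, smul_add, ← add_assoc, ← hh]
    rfl

theorem split_of_le (ν : Fin r → ℕ) (hν : T.Good ν) {p : ℕ} (y : M ⊗[B] ↥(⋀[B]^p L))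
    (hy : ∃ c, T.d p y = T.Q ν • c) : T.Split (T.Q ν) p y := by
  classical
  suffices h : ∀ (n : ℕ) (μ : Fin r → ℕ), μ ≤ ν → ∑ j, (ν j - μ j) = n →
      ∀ u, (∃ c, T.d p (T.Q μ • u) = T.Q ν • c) → T.Split (T.Q ν) p (T.Q μ • u) by
    have h0 := h _ 0 (fun j => Nat.zero_le _) rfl y (by simpa [Q] using hy)
    simpa [Q] using h0
  intro n
  induction n with
  | zero =>
    intro μ hμ hn u _
    obtain rfl : μ = ν := funext fun j => le_antisymm (hμ j)
      (Nat.sub_eq_zero_iff_le.1 ((Finset.sum_eq_zero_iff.1 hn) j (Finset.mem_univ j)))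
    cases p with
    | zero => exact ⟨u, rfl⟩
    | succ p => exact ⟨0, u, by rw [map_zero, zero_add]⟩
  | succ n ih =>
    intro μ hμ hn u hu
    obtain ⟨i, -, hi⟩ : ∃ i ∈ Finset.univ, ν i - μ i ≠ 0 :=
      Finset.exists_ne_zero_of_sum_ne_zero (by omega)
    have hlt : μ i < ν i := by omega
    have hle : μ + Pi.single i 1 ≤ ν := fun j => by
      by_cases hj : j = i
      · subst hj; rw [Pi.add_apply, Pi.single_eq_same]; exact hlt
      · rw [Pi.add_apply, Pi.single_eq_of_ne hj, add_zero]; exact hμ j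
    have hsum : ∑ j, (ν j - (μ + Pi.single i 1 : Fin r → ℕ) j) = n := by
      have : ∀ j, (ν j - μ j) = (ν j - (μ + Pi.single i 1 : Fin r → ℕ) j) + (if j = i then 1 else 0) := fun j => by
        have h1 := hμ j
        by_cases hj : j = i
        · subst hj; rw [if_pos rfl, Pi.add_apply, Pi.single_eq_same]; omega
        · rw [if_neg hj, Pi.add_apply, Pi.single_eq_of_ne hj, add_zero, add_zero]
      rw [Finset.sum_congr rfl fun j _ => this j, Finset.sum_add_distrib, Finset.sum_ite_eq',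
        if_pos (Finset.mem_univ i)] at hn
      omega
    obtain ⟨c, hc⟩ := hu
    obtain ⟨ν', hν'⟩ : ∃ ν' : Fin r → ℕ, ν = μ + Pi.single i 1 + ν' :=
      ⟨fun j => ν j - (μ + Pi.single i 1 : Fin r → ℕ) j, funext fun j => (Nat.add_sub_cancel' (hle j)).symm⟩
    have hQ : T.Q ν = T.Q μ * T.g i * T.Q ν' := by
      rw [← Q_add, hν']
      simp only [Q, Pi.add_apply, pow_add, Finset.prod_mul_distrib]
    have hs := T.split_step μ i (fun k hk => hν i k hk (μ i) hlt) u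
      ⟨T.Q ν' • c, by rw [hc, hQ, mul_smul]⟩
    refine T.step_split hs fun u' hu' => ?_
    obtain ⟨c', hc'⟩ := hu'
    have := ih (μ + Pi.single i 1) hle hsum u' ⟨c, by rw [Q_add, hc', zero_smul, add_zero, hc]⟩
    rwa [Q_add] at this

end Twist

end Groth.Agent.LogNCD2
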