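import Groth.Prelude.Def_LogNCD2
import Groth.Agent.LogNCD2.Exists
import Groth.Agent.LogNCD2.TwMain

/-!
Logarithmic de Rham complexes on adapted affine opens.
-/

universe u

open CategoryTheory CategoryTheory.Limits AlgebraicGeometry TopologicalSpace Opposite exteriorPower TensorProduct

noncomputable section

namespace Groth.Agent.LogNCD2

set_option backward.isDefEq.respectTransparency false
set_option backward.isDefEq.respectTransparency.types false

theorem wedge_one1_prod_zero {B L σ : Type u} [CommRing B] [AddCommGroup L] [Module B L] (w : σ → L) (D : B →+ L)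
    (hmul : ∀ a b, D (a * b) = a • D b + b • D a) (hone : D 1 = 0) (c : σ → B) (hc : ∀ k, ∃ t : B, D (c k) = t • w k)
    {p : ℕ} (s : Fin p → σ) (S : Finset (Fin p)) :
    Conn.wedge p (one1 (D (∏ j ∈ S, c (s j)))) (ιMulti B p fun j => w (s j)) = 0 := by
  classical
  induction S using Finset.induction_on with
  | empty =>
    rw [Finset.prod_empty, hone,
      show (one1 (0 : L) : ↥(⋀[B]^1 L)) = 0 from AlternatingMap.map_coord_zero _ (0 : Fin 1) rfl,
      map_zero, LinearMap.zero_apply]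
  | @insert j S hj ih =>
    obtain ⟨t, ht⟩ := hc (s j)
    rw [Finset.prod_insert hj, hmul, one1_add, one1_smul, one1_smul, map_add, map_smul, map_smul,
      LinearMap.add_apply, LinearMap.smul_apply, LinearMap.smul_apply, ih, ht, one1_smul, map_smul,
      LinearMap.smul_apply, wedge_one1]
    rw [AlternatingMap.map_eq_zero_of_eq _ _ (show (Fin.cons (w (s j)) fun i => w (s i) : Fin (p + 1) → L) 0 =
      (Fin.cons (w (s j)) fun i => w (s i) : Fin (p + 1) → L) j.succ by simp) (Fin.succ_ne_zero j).symm]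
    simp

theorem twedge_unit {B M L : Type u} [CommRing B] [AddCommGroup M] [Module B M] [AddCommGroup L] [Module B L]
    (N : M →+ M ⊗[B] ↥(⋀[B]^1 L)) (D : B → L) (hN : ∀ (t : B) (e : M), N (t • e) = t • N e + e ⊗ₜ one1 (D t))
    {p : ℕ} (P : B) (e : M) (η : ↥(⋀[B]^p L)) (hz : Conn.wedge p (one1 (D P)) η = 0) :
    Conn.twedge p (N e) (P • η) = Conn.twedge p (N (P • e)) η := by
  rw [hN, map_add, LinearMap.add_apply, twedge_tmul_one1, hz, tmul_zero, add_zero, map_smul, map_smul,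
    LinearMap.smul_apply]

variable {X S : Scheme.{u}} {f : X ⟶ S} {L E : X.Modules} {δ : OmegaSh.Der f L}
  {nabla : Coh.toAb E ⟶ Coh.toAb (CohB1.tensorMod E L)} (K : ConnSh.Cx δ E nabla)

theorem one1_eq {B L : Type u} [CommRing B] [AddCommGroup L] [Module B L] (a : L) :
    ιMulti B 1 ![a] = one1 (B := B) a := by
  rw [one1]
  congr 1
  funext j
  fin_cases j
  rfl

/-- The connection in degree one. -/
def NE (U : X.affineOpens) : Γ(E, U.1) →+ Γ(E, U.1) ⊗[Γ(X, U.1)] ↥(⋀[Γ(X, U.1)]^1 Γ(L, U.1)) where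
  toFun e := K.loc 1 U (K.iso1.inv.app U.1 (ConnSh.secApp nabla U.1 e))
  map_zero' := by simp
  map_add' a b := by simp

theorem iso1_inv_tmul (U : X.affineOpens) (e : Γ(E, U.1)) (ω : Γ(L, U.1)) :
    K.loc 1 U (K.iso1.inv.app U.1 (SecTwist.tmul E L U.1 e ω)) = e ⊗ₜ one1 ω := by
  rw [← K.loc1 U e ω]
  have h : ∀ z, K.iso1.inv.app U.1 (K.iso1.hom.app U.1 z) = z := fun z =>
    congr(($(K.iso1.hom_inv_id)).app U.1 z)
  rw [h, LinearEquiv.apply_symm_apply, one1_eq]

theorem NE_smul (hc : ConnSh.IsConn δ E nabla) (U : X.affineOpens) (t : Γ(X, U.1)) (e : Γ(E, U.1)) :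
    NE K U (t • e) = t • NE K U e + e ⊗ₜ one1 (δ.app U.1 t) := by
  show K.loc 1 U (K.iso1.inv.app U.1 (ConnSh.secApp nabla U.1 (t • e))) = _
  rw [hc U.1 t e, map_add, Scheme.Modules.Hom.app_smul, map_add, map_smul, iso1_inv_tmul]
  rfl

/-- The differential on an affine open. -/
def dK (p : ℕ) (U : X.affineOpens) :
    Γ(E, U.1) ⊗[Γ(X, U.1)] ↥(⋀[Γ(X, U.1)]^p Γ(L, U.1)) →+
      Γ(E, U.1) ⊗[Γ(X, U.1)] ↥(⋀[Γ(X, U.1)]^(p + 1) Γ(L, U.1)) :=
  (K.loc (p + 1) U).toAddMonoidHom.comp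
    ((((K.iso (p + 1)).hom.hom.app (op U.1)).hom.comp
      (((K.K.d p (p + 1)).hom.app (op U.1)).hom.comp ((K.iso p).inv.hom.app (op U.1)).hom)).comp
        (K.loc p U).symm.toAddMonoidHom)

theorem dK_apply (p : ℕ) (U : X.affineOpens) (x : Γ(E, U.1) ⊗[Γ(X, U.1)] ↥(⋀[Γ(X, U.1)]^p Γ(L, U.1))) :
    dK K p U x = K.loc (p + 1) U ((K.iso (p + 1)).hom.hom.app (op U.1)
      ((K.K.d p (p + 1)).hom.app (op U.1) ((K.iso p).inv.hom.app (op U.1) ((K.loc p U).symm x)))) := rfl

theorem iso_hom_inv (p : ℕ) (U : X.Opens) (y : (K.K.X p).obj.obj (op U)) :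
    (K.iso p).inv.hom.app (op U) ((K.iso p).hom.hom.app (op U) y) = y :=
  congr(($((K.iso p).hom_inv_id)).hom.app (op U) y)

theorem iso_inv_hom (p : ℕ) (U : X.Opens) (y : (Coh.toAb (K.term p)).obj.obj (op U)) :
    (K.iso p).hom.hom.app (op U) ((K.iso p).inv.hom.app (op U) y) = y :=
  congr(($((K.iso p).inv_hom_id)).hom.app (op U) y)

theorem dK_dK (p : ℕ) (U : X.affineOpens) (x : Γ(E, U.1) ⊗[Γ(X, U.1)] ↥(⋀[Γ(X, U.1)]^p Γ(L, U.1))) :
    dK K (p + 1) U (dK K p U x) = 0 := by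
  show K.loc (p + 2) U ((K.iso (p + 2)).hom.hom.app (op U.1) ((K.K.d (p + 1) (p + 2)).hom.app (op U.1)
    ((K.iso (p + 1)).inv.hom.app (op U.1) ((K.loc (p + 1) U).symm (K.loc (p + 1) U ((K.iso (p + 1)).hom.hom.app (op U.1)
      ((K.K.d p (p + 1)).hom.app (op U.1) ((K.iso p).inv.hom.app (op U.1) ((K.loc p U).symm x))))))))) = 0
  rw [LinearEquiv.symm_apply_apply, iso_hom_inv]
  have h : ∀ z, (K.K.d (p + 1) (p + 2)).hom.app (op U.1) ((K.K.d p (p + 1)).hom.app (op U.1) z) = 0 := fun z =>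
    congr(($(K.K.d_comp_d p (p + 1) (p + 2))).hom.app (op U.1) z)
  rw [h]
  erw [map_zero]
  exact map_zero _

set_option maxHeartbeats 1000000 in
theorem dK_rule (p : ℕ) (U : X.affineOpens) (e : Γ(E, U.1)) (b : Fin p → Γ(X, U.1)) :
    dK K p U (e ⊗ₜ ιMulti Γ(X, U.1) p (fun i => δ.app U.1 (b i))) =
      Conn.twedge p (NE K U e) (ιMulti Γ(X, U.1) p fun i => δ.app U.1 (b i)) := by
  have h := K.rule p U e 1 b
  rw [one_smul] at h
  have h0 : ιMulti Γ(X, U.1) (p + 1) (Fin.cons (δ.app U.1 1) (fun i => δ.app U.1 (b i))) = 0 :=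
    AlternatingMap.map_coord_zero _ 0 (by rw [Fin.cons_zero]; exact δ.d_one _)
  rw [h0, tmul_zero] at h
  refine (congrArg (fun z => K.loc (p + 1) U ((K.iso (p + 1)).hom.hom.app (op U.1) z)) h).trans ?_
  refine (congrArg (K.loc (p + 1) U) (iso_inv_hom K (p + 1) U.1 _)).trans ?_
  exact (LinearEquiv.apply_symm_apply _ _).trans (add_zero _)

variable {U V : X.affineOpens} (h : V.1 ≤ U.1)

/-- Restriction of forms between affine opens. -/
def resT (p : ℕ) : Γ(E, U.1) ⊗[Γ(X, U.1)] ↥(⋀[Γ(X, U.1)]^p Γ(L, U.1)) →+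
    Γ(E, V.1) ⊗[Γ(X, V.1)] ↥(⋀[Γ(X, V.1)]^p Γ(L, V.1)) where
  toFun x := K.loc p V ((K.term p).presheaf.map (homOfLE h).op ((K.loc p U).symm x))
  map_zero' := by simp
  map_add' a b := by simp

theorem resT_smul (p : ℕ) (t : Γ(X, U.1)) (x : Γ(E, U.1) ⊗[Γ(X, U.1)] ↥(⋀[Γ(X, U.1)]^p Γ(L, U.1))) :
    resT K h p (t • x) = X.presheaf.map (homOfLE h).op t • resT K h p x := by
  show K.loc p V ((K.term p).presheaf.map (homOfLE h).op ((K.loc p U).symm (t • x))) = _
  rw [map_smul, Scheme.Modules.map_smul, map_smul]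
  rfl

theorem resT_pure (p : ℕ) (e : Γ(E, U.1)) (ω : Fin p → Γ(L, U.1)) :
    resT K h p (e ⊗ₜ ιMulti Γ(X, U.1) p ω) =
      E.presheaf.map (homOfLE h).op e ⊗ₜ ιMulti Γ(X, V.1) p fun j => L.presheaf.map (homOfLE h).op (ω j) := by
  show K.loc p V ((K.term p).presheaf.map (homOfLE h).op ((K.loc p U).symm _)) = _
  have h' := K.loc_res p U V h e ω
  exact (congrArg (K.loc p V) h').trans (LinearEquiv.apply_symm_apply _ _)

theorem resT_dK (p : ℕ) (x : Γ(E, U.1) ⊗[Γ(X, U.1)] ↥(⋀[Γ(X, U.1)]^p Γ(L, U.1))) :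
    resT K h (p + 1) (dK K p U x) = dK K p V (resT K h p x) := by
  show K.loc (p + 1) V ((K.term (p + 1)).presheaf.map (homOfLE h).op ((K.loc (p + 1) U).symm (K.loc (p + 1) U _))) =
    K.loc (p + 1) V ((K.iso (p + 1)).hom.hom.app (op V.1) ((K.K.d p (p + 1)).hom.app (op V.1)
      ((K.iso p).inv.hom.app (op V.1) ((K.loc p V).symm (K.loc p V _)))))
  rw [LinearEquiv.symm_apply_apply, LinearEquiv.symm_apply_apply]
  congr 1
  let i := (homOfLE h).op
  refine (ConcreteCategory.congr_hom ((K.iso (p + 1)).hom.hom.naturality i) _).symm.trans ?_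
  refine congrArg ((K.iso (p + 1)).hom.hom.app (op V.1)) ?_
  refine (ConcreteCategory.congr_hom ((K.K.d p (p + 1)).hom.naturality i) _).symm.trans ?_
  exact congrArg ((K.K.d p (p + 1)).hom.app (op V.1))
    (ConcreteCategory.congr_hom ((K.iso p).inv.hom.naturality i) _).symm

theorem resT_NE (e : Γ(E, U.1)) : resT K h 1 (NE K U e) = NE K V (E.presheaf.map (homOfLE h).op e) := by
  show K.loc 1 V ((K.term 1).presheaf.map (homOfLE h).op ((K.loc 1 U).symm (K.loc 1 U _))) =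
    K.loc 1 V (K.iso1.inv.app V.1 (ConnSh.secApp nabla V.1 (E.presheaf.map (homOfLE h).op e)))
  rw [LinearEquiv.symm_apply_apply, ← QCoh.map_app_comm]
  refine congrArg (fun z => K.loc 1 V (K.iso1.inv.app V.1 z)) ?_
  exact (ConcreteCategory.congr_hom (nabla.hom.naturality (homOfLE h).op) e).symm

theorem resT_one1 (e : Γ(E, U.1)) (a : Γ(L, U.1)) :
    resT K h 1 (e ⊗ₜ one1 a) = E.presheaf.map (homOfLE h).op e ⊗ₜ one1 (L.presheaf.map (homOfLE h).op a) :=
  resT_pure K h 1 e _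

set_option maxHeartbeats 1000000 in
theorem resT_twedge (p : ℕ) (α : Γ(E, U.1) ⊗[Γ(X, U.1)] ↥(⋀[Γ(X, U.1)]^1 Γ(L, U.1))) (v : Fin p → Γ(L, U.1)) :
    resT K h (p + 1) (Conn.twedge p α (ιMulti Γ(X, U.1) p v)) =
      Conn.twedge p (resT K h 1 α) (ιMulti Γ(X, V.1) p fun j => L.presheaf.map (homOfLE h).op (v j)) := by
  induction α with
  | zero => simp
  | tmul e α =>
    obtain ⟨a, rfl⟩ := exists_one1 α
    rw [twedge_tmul_one1, wedge_one1, resT_one1, twedge_tmul_one1, wedge_one1]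
    refine (resT_pure K h (p + 1) e _).trans ?_
    congr 2
    funext j
    refine Fin.cases ?_ (fun i => ?_) j <;> simp
  | add x y hx hy => rw [map_add, LinearMap.add_apply, map_add, map_add, hx, hy, map_add, LinearMap.add_apply]

variable (δ) in
/-- A basis of one-forms consisting of logarithmic differentials of functions. -/
structure Adapted (W : X.affineOpens) where
  σ : Type u
  w : Module.Basis σ Γ(X, W.1) Γ(L, W.1)
  v : σ → Γ(X, W.1)
  c : σ → Γ(X, W.1)
  hc : ∀ k, c k • w k = δ.app W.1 (v k)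
  hδc : ∀ k, ∃ t : Γ(X, W.1), δ.app W.1 (c k) = t • w k

theorem der_mul (W : X.Opens) (a b : Γ(X, W)) :
    δ.app W (a * b) = a • δ.app W b + b • δ.app W a :=
  Groth.Agent.Synt29.OmegaStalk.app_mul L δ W a b

set_option maxHeartbeats 1000000 in
theorem dK_Wv_of_isUnit (hc : ConnSh.IsConn δ E nabla) {W : X.affineOpens} (A : Adapted δ W)
    (hu : ∀ k, IsUnit (A.c k)) (p : ℕ) (e : Γ(E, W.1)) (s : Fin p → A.σ) :
    dK K p W (e ⊗ₜ Wv A.w s) = Conn.twedge p (NE K W e) (Wv A.w s) := by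
  let P := ∏ j, A.c (s j)
  obtain ⟨P', hP'⟩ := (IsUnit.prod_iff.2 fun j _ => hu (s j) : IsUnit P).exists_left_inv
  let e' := P' • e
  have he : P • e' = e := by rw [smul_smul, mul_comm, hP', one_smul]
  have hW : P • Wv A.w s = ιMulti Γ(X, W.1) p fun j => δ.app W.1 (A.v (s j)) := by
    rw [Wv, ← AlternatingMap.map_smul_univ]
    exact congrArg _ (funext fun j => A.hc (s j))
  calc dK K p W (e ⊗ₜ Wv A.w s) = dK K p W (e' ⊗ₜ (P • Wv A.w s)) := by rw [← smul_tmul, he]
    _ = Conn.twedge p (NE K W e') (P • Wv A.w s) := by rw [hW, dK_rule]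
    _ = Conn.twedge p (NE K W (P • e')) (Wv A.w s) :=
        twedge_unit (NE K W) (fun t => δ.app W.1 t) (fun t x => NE_smul K hc W t x) P e' _
          (wedge_one1_prod_zero (fun k => A.w k) (δ.app W.1) (fun x y => der_mul W.1 x y) (δ.d_one _) A.c A.hδc s
            Finset.univ)
    _ = Conn.twedge p (NE K W e) (Wv A.w s) := by rw [he]

theorem resT_injective {W : X.affineOpens} {V : X.affineOpens} (h : W.1 ≤ V.1) {σ : Type u} {τ : Type*} [LinearOrder σ]
    (w : Module.Basis σ Γ(X, V.1) Γ(L, V.1)) (w' : Module.Basis σ Γ(X, W.1) Γ(L, W.1))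
    (hw : ∀ k, w' k = L.presheaf.map (homOfLE h).op (w k))
    (bE : Module.Basis τ Γ(X, V.1) Γ(E, V.1)) (bE' : Module.Basis τ Γ(X, W.1) Γ(E, W.1))
    (hb : ∀ k, bE' k = E.presheaf.map (homOfLE h).op (bE k))
    (hX : Function.Injective (X.presheaf.map (homOfLE h).op)) (p : ℕ) :
    Function.Injective (resT K h p) := by
  classical
  refine (injective_iff_map_eq_zero _).2 fun x hx => ?_
  let bb := bE.tensorProduct (w.exteriorPower p)
  let bb' := bE'.tensorProduct (w'.exteriorPower p)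
  have hbb : ∀ q, resT K h p (bb q) = bb' q := fun q => by
    rw [Module.Basis.tensorProduct_apply', Module.Basis.tensorProduct_apply', exteriorPower.basis_apply,
      exteriorPower.basis_apply, hb]
    refine (resT_pure K h p _ _).trans ?_
    exact congrArg (fun z => E.presheaf.map (homOfLE h).op (bE q.1) ⊗ₜ[Γ(X, W.1)] z)
      (congrArg (ιMulti Γ(X, W.1) p) (funext fun j => (hw _).symm))
  rw [← bb.linearCombination_repr x, Finsupp.linearCombination_apply, Finsupp.sum, map_sum] at hx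
  simp only [resT_smul, hbb] at hx
  have h0 := linearIndependent_iff'.1 bb'.linearIndependent _ _ hx
  refine bb.repr.injective (Finsupp.ext fun q => ?_)
  rw [map_zero, Finsupp.zero_apply]
  by_cases hq : q ∈ (bb.repr x).support
  · exact hX (by rw [map_zero]; exact h0 q hq)
  · exact Finsupp.notMem_support_iff.1 hq

/-- On an adapted affine open the differential is given by the connection on constant forms. -/
theorem dK_Wv (hc : ConnSh.IsConn δ E nabla) {W : X.affineOpens} (h : W.1 ≤ U.1) (A : Adapted δ W)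
    (hu : ∀ k, IsUnit (A.c k)) (w : A.σ → Γ(L, U.1)) (hw : ∀ k, A.w k = L.presheaf.map (homOfLE h).op (w k))
    {p : ℕ} (hinj : Function.Injective (resT K h (p + 1))) (e : Γ(E, U.1)) (s : Fin p → A.σ) :
    dK K p U (e ⊗ₜ ιMulti Γ(X, U.1) p fun j => w (s j)) =
      Conn.twedge p (NE K U e) (ιMulti Γ(X, U.1) p fun j => w (s j)) := by
  refine hinj ?_
  rw [resT_dK, resT_pure, resT_twedge, resT_NE]
  have := dK_Wv_of_isUnit K hc A hu p (E.presheaf.map (homOfLE h).op e) s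
  simp only [Wv, hw] at this
  exact this

end Groth.Agent.LogNCD2
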