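import Groth.Agent.LogNCD2.TwCx
import Groth.Agent.LogNCD2.QisoBasis
import Groth.Agent.QCoh.TensorSections
import Groth.Agent.PPSheaf.Gr

/-!
The image of the complex of a twist in the complex of a connection, on affine opens where the twisting ideal is principal.
-/

universe u

open CategoryTheory CategoryTheory.Limits AlgebraicGeometry TopologicalSpace Opposite exteriorPower TensorProduct

noncomputable section

namespace Groth.Agent.LogNCD2

set_option backward.isDefEq.respectTransparency false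
set_option backward.isDefEq.respectTransparency.types false

variable {X S : Scheme.{u}} {f : X ⟶ S} {L E : X.Modules} {δ : OmegaSh.Der f L}
  {I : X.IdealSheafData}
  {nabla : Coh.toAb E ⟶ Coh.toAb (CohB1.tensorMod E L)} (K : ConnSh.Cx δ E nabla)
  {nabla' : Coh.toAb (CohB1.tensorMod E (ClSub.idealMod I)) ⟶
    Coh.toAb (CohB1.tensorMod (CohB1.tensorMod E (ClSub.idealMod I)) L)}
  (K' : ConnSh.Cx δ (CohB1.tensorMod E (ClSub.idealMod I)) nabla')
  (ψ : ∀ p : ℕ, K'.term p ⟶ K.term p)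

variable (E) in
/-- Multiples of a generator of the ideal. -/
def theta (V : X.Opens) (k : Γ(ClSub.idealMod I, V)) :
    Γ(E, V) →ₗ[Γ(X, V)] Γ(CohB1.tensorMod E (ClSub.idealMod I), V) where
  toFun e := QCoh.tmS E (ClSub.idealMod I) e k
  map_add' a b := QCoh.tmS_add_left _ _ a b k
  map_smul' t a := QCoh.tmS_smul_left _ _ t a k

theorem theta_apply (V : X.Opens) (k : Γ(ClSub.idealMod I, V)) (e : Γ(E, V)) :
    theta E V k e = SecTwist.tmul E (ClSub.idealMod I) V e k := rfl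

theorem theta_surjective (hE : Coh.IsQCoh E) {V : X.affineOpens} {k : Γ(ClSub.idealMod I, V.1)}
    (hk : I.ideal V = Ideal.span {OmegaSh.idealSect I V.1 k}) : Function.Surjective (theta E V.1 k) := by
  intro z
  obtain ⟨z, rfl⟩ := (QCoh.bijective_tmLin hE (PPSheaf.isQCoh_idealMod I) V.2).2 z
  induction z with
  | zero => exact ⟨0, by rw [map_zero, map_zero]⟩
  | tmul e g =>
    have hg := OmegaLib.idealSect_mem I V g
    rw [hk, Ideal.mem_span_singleton'] at hg
    obtain ⟨t, ht⟩ := hg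
    obtain rfl : g = t • k := OmegaLib.idealSect_injective I V.1 (by rw [OmegaLib.idealSect_smul, ← ht])
    refine ⟨t • e, ?_⟩
    rw [QCoh.tmLin_tmul, QCoh.tmS_smul_right, map_smul]
    rfl
  | add x y hx hy =>
    obtain ⟨a, ha⟩ := hx
    obtain ⟨b, hb⟩ := hy
    exact ⟨a + b, by rw [map_add, ha, hb, map_add]⟩

/-- The compatibility defining the inclusion of the twisted complex. -/
def IsIncl : Prop :=
  ∀ (p : ℕ) (U : X.affineOpens) (e : Γ(E, U.1)) (g : Γ(ClSub.idealMod I, U.1)) (ω : Fin p → Γ(L, U.1)),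
    (ψ p).app U.1 ((K'.loc p U).symm
      (SecTwist.tmul E (ClSub.idealMod I) U.1 e g ⊗ₜ exteriorPower.ιMulti _ p ω)) =
    (K.loc p U).symm ((OmegaSh.idealSect I U.1 g • e) ⊗ₜ exteriorPower.ιMulti _ p ω)

variable {K K' ψ}

set_option maxHeartbeats 1000000 in
theorem psi_theta (hψ : IsIncl K K' ψ) {V : X.affineOpens} (k : Γ(ClSub.idealMod I, V.1)) (p : ℕ)
    (z : Γ(E, V.1) ⊗[Γ(X, V.1)] ↥(⋀[Γ(X, V.1)]^p Γ(L, V.1))) :
    (ψ p).app V.1 ((K'.loc p V).symm ((theta E V.1 k).rTensor _ z)) =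
      (K.loc p V).symm (OmegaSh.idealSect I V.1 k • z) := by
  induction z with
  | zero => simp
  | tmul e η =>
    have hη : η ∈ Submodule.span Γ(X, V.1) (Set.range (ιMulti Γ(X, V.1) p (M := Γ(L, V.1)))) := by
      rw [exteriorPower.ιMulti_span]; trivial
    induction hη using Submodule.span_induction generalizing e with
    | mem η hη =>
      obtain ⟨ω, rfl⟩ := hη
      rw [LinearMap.rTensor_tmul, theta_apply, smul_tmul']
      exact hψ p V e k ω
    | zero => simp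
    | add a b _ _ ha hb => simp only [tmul_add, map_add, smul_add, ha, hb]
    | smul t a _ ha =>
      rw [← smul_tmul]
      exact ha (t • e)
  | add a b ha hb => simp only [map_add, smul_add, ha, hb]

theorem phi_app {φ : K'.K ⟶ K.K}
    (hφ : ∀ p : ℕ, φ.f p = (K'.iso p).hom ≫ (SheafOfModules.toSheaf X.ringCatSheaf).map (ψ p) ≫ (K.iso p).inv)
    (p : ℕ) (V : X.Opens) (x : (K'.K.X p).obj.obj (op V)) :
    (φ.f p).hom.app (op V) x =
      (K.iso p).inv.hom.app (op V) ((ψ p).app V ((K'.iso p).hom.hom.app (op V) x)) := by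
  rw [hφ p]
  rfl

theorem dK_loc (p : ℕ) (V : X.affineOpens) (y : (K.K.X p).obj.obj (op V.1)) :
    dK K p V (K.loc p V ((K.iso p).hom.hom.app (op V.1) y)) =
      K.loc (p + 1) V ((K.iso (p + 1)).hom.hom.app (op V.1) ((K.K.d p (p + 1)).hom.app (op V.1) y)) := by
  rw [dK_apply]
  refine congrArg (fun z => K.loc (p + 1) V ((K.iso (p + 1)).hom.hom.app (op V.1)
    ((K.K.d p (p + 1)).hom.app (op V.1) z))) ?_
  exact (congrArg _ ((K.loc p V).symm_apply_apply _)).trans (iso_hom_inv K p V.1 y)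

theorem phi_injective (hE : Coh.IsQCoh E) {φ : K'.K ⟶ K.K}
    (hφ : ∀ p : ℕ, φ.f p = (K'.iso p).hom ≫ (SheafOfModules.toSheaf X.ringCatSheaf).map (ψ p) ≫ (K.iso p).inv)
    (hψ : IsIncl K K' ψ) {V : X.affineOpens} {k : Γ(ClSub.idealMod I, V.1)}
    (hk : I.ideal V = Ideal.span {OmegaSh.idealSect I V.1 k}) (p : ℕ)
    (hreg : IsSMulRegular (Γ(E, V.1) ⊗[Γ(X, V.1)] ↥(⋀[Γ(X, V.1)]^p Γ(L, V.1))) (OmegaSh.idealSect I V.1 k)) :
    Function.Injective ((φ.f p).hom.app (op V.1)) := by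
  intro x x' hxx
  obtain ⟨z, hz⟩ := LinearMap.rTensor_surjective (↥(⋀[Γ(X, V.1)]^p Γ(L, V.1))) (theta_surjective hE hk)
    (K'.loc p V ((K'.iso p).hom.hom.app (op V.1) x))
  obtain ⟨z', hz'⟩ := LinearMap.rTensor_surjective (↥(⋀[Γ(X, V.1)]^p Γ(L, V.1))) (theta_surjective hE hk)
    (K'.loc p V ((K'.iso p).hom.hom.app (op V.1) x'))
  have e : ∀ (x : (K'.K.X p).obj.obj (op V.1)) z,
      (theta E V.1 k).rTensor _ z = K'.loc p V ((K'.iso p).hom.hom.app (op V.1) x) →
      (φ.f p).hom.app (op V.1) x = (K.iso p).inv.hom.app (op V.1) ((K.loc p V).symm (OmegaSh.idealSect I V.1 k • z)) :=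
    fun x z hz => by
      rw [phi_app hφ, ← psi_theta hψ, hz, LinearEquiv.symm_apply_apply]
  have h1 := (e x z hz).symm.trans (hxx.trans (e x' z' hz'))
  have h2 := congrArg ((K.iso p).hom.hom.app (op V.1)) h1
  rw [iso_inv_hom, iso_inv_hom] at h2
  have h3 : z = z' := hreg ((K.loc p V).symm.injective h2)
  have h4 : (K'.iso p).hom.hom.app (op V.1) x = (K'.iso p).hom.hom.app (op V.1) x' :=
    (K'.loc p V).injective (hz.symm.trans ((congrArg _ h3).trans hz'))
  exact (iso_hom_inv K' p V.1 x).symm.trans ((congrArg _ h4).trans (iso_hom_inv K' p V.1 x'))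

set_option maxHeartbeats 1000000 in
theorem phi_exact (hE : Coh.IsQCoh E) {φ : K'.K ⟶ K.K}
    (hφ : ∀ p : ℕ, φ.f p = (K'.iso p).hom ≫ (SheafOfModules.toSheaf X.ringCatSheaf).map (ψ p) ≫ (K.iso p).inv)
    (hψ : IsIncl K K' ψ) {V : X.affineOpens} {k : Γ(ClSub.idealMod I, V.1)}
    (hk : I.ideal V = Ideal.span {OmegaSh.idealSect I V.1 k})
    (hsplit0 : ∀ y, (∃ c, dK K 0 V y = OmegaSh.idealSect I V.1 k • c) → ∃ u, y = OmegaSh.idealSect I V.1 k • u)
    (hsplit : ∀ (p : ℕ) y, (∃ c, dK K (p + 1) V y = OmegaSh.idealSect I V.1 k • c) →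
      ∃ v u, y = dK K p V v + OmegaSh.idealSect I V.1 k • u)
    (n : ℕ) (y : (K.K.X n).obj.obj (op V.1)) (x : (K'.K.X (n + 1)).obj.obj (op V.1))
    (hyx : (K.K.d n (n + 1)).hom.app (op V.1) y = (φ.f (n + 1)).hom.app (op V.1) x) :
    ∃ (v : (K'.K.X n).obj.obj (op V.1)) (w : (K.K.X ((ComplexShape.up ℕ).prev n)).obj.obj (op V.1)),
      y = (φ.f n).hom.app (op V.1) v + (K.K.d _ n).hom.app (op V.1) w := by
  let q := OmegaSh.idealSect I V.1 k
  let y' := K.loc n V ((K.iso n).hom.hom.app (op V.1) y)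
  have hy' : ∃ c, dK K n V y' = q • c := by
    obtain ⟨z, hz⟩ := LinearMap.rTensor_surjective (↥(⋀[Γ(X, V.1)]^(n + 1) Γ(L, V.1))) (theta_surjective hE hk)
      (K'.loc (n + 1) V ((K'.iso (n + 1)).hom.hom.app (op V.1) x))
    refine ⟨z, ?_⟩
    rw [dK_loc, hyx, phi_app hφ, iso_inv_hom, ← LinearEquiv.eq_symm_apply, ← psi_theta hψ, hz,
      LinearEquiv.symm_apply_apply]
  have hv : ∀ u, ∃ v : (K'.K.X n).obj.obj (op V.1),
      (φ.f n).hom.app (op V.1) v = (K.iso n).inv.hom.app (op V.1) ((K.loc n V).symm (q • u)) := fun u => by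
    refine ⟨(K'.iso n).inv.hom.app (op V.1) ((K'.loc n V).symm ((theta E V.1 k).rTensor _ u)), ?_⟩
    rw [phi_app hφ, iso_inv_hom, psi_theta hψ]
  have hy : y = (K.iso n).inv.hom.app (op V.1) ((K.loc n V).symm y') := by
    rw [LinearEquiv.symm_apply_apply, iso_hom_inv]
  cases n with
  | zero =>
    obtain ⟨u, hu⟩ := hsplit0 y' hy'
    obtain ⟨v, hv⟩ := hv u
    refine ⟨v, 0, ?_⟩
    rw [hv, hy, hu, map_zero, add_zero]
  | succ m =>
    obtain ⟨v₀, u, hu⟩ := hsplit m y' hy'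
    obtain ⟨v, hv⟩ := hv u
    rw [CochainComplex.prev_nat_succ]
    refine ⟨v, (K.iso m).inv.hom.app (op V.1) ((K.loc m V).symm v₀), ?_⟩
    have hd : (K.iso (m + 1)).inv.hom.app (op V.1) ((K.loc (m + 1) V).symm (dK K m V v₀)) =
        (K.K.d m (m + 1)).hom.app (op V.1) ((K.iso m).inv.hom.app (op V.1) ((K.loc m V).symm v₀)) := by
      rw [dK_apply, LinearEquiv.symm_apply_apply, iso_hom_inv]
    rw [hy, hu, map_add, map_add, hd, hv]
    exact add_comm _ _

end Groth.Agent.LogNCD2
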