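import Groth.Agent.LogNCD2.TwChart

/-!
The inclusion of the logarithmic de Rham complex of a twist is a quasi-isomorphism when the residues allow it.
-/

universe u

open CategoryTheory CategoryTheory.Limits AlgebraicGeometry TopologicalSpace Opposite exteriorPower TensorProduct

noncomputable section

namespace Groth.Agent.LogNCD2

set_option backward.isDefEq.respectTransparency false
set_option backward.isDefEq.respectTransparency.types false

variable {X S : Scheme.{u}} {f : X ⟶ S} {Ω' : X.Modules} {d : OmegaSh.Der f Ω'} {r : ℕ}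
  {D : Fin r → X.IdealSheafData} {Λ : LogNCD.LogMod d D}

/-- The local equations of a multiple of the divisor. -/
def IsMultiple (D : Fin r → X.IdealSheafData) (I : X.IdealSheafData) (ν : Fin r → ℕ) : Prop :=
  ∀ (V : X.affineOpens) (g : Fin r → Γ(X, V.1)), (∀ j, (D j).ideal V = Ideal.span {g j}) →
    I.ideal V = Ideal.span {∏ j, g j ^ ν j}

theorem isMultiple_single (D : Fin r → X.IdealSheafData) (i : Fin r) : IsMultiple D (D i) (Pi.single i 1) := by
  classical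
  intro V g hg
  rw [hg i, Finset.prod_eq_single i (fun j _ hj => by rw [Pi.single_eq_of_ne hj, pow_zero])
    (fun h => absurd (Finset.mem_univ i) h), Pi.single_eq_same, pow_one]

theorem isMultiple_prod (D : Fin r → X.IdealSheafData) (ν : Fin r → ℕ) :
    IsMultiple D (∏ j, D j ^ ν j) ν := by
  classical
  intro V g hg
  suffices h : ∀ t : Finset (Fin r), (∏ j ∈ t, D j ^ ν j).ideal V = Ideal.span {∏ j ∈ t, g j ^ ν j} from
    h Finset.univ
  intro t
  induction t using Finset.induction_on with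
  | empty => simp
  | @insert j t hj ih =>
    rw [Finset.prod_insert hj, Finset.prod_insert hj, Scheme.IdealSheafData.ideal_mul, Pi.mul_apply,
      Scheme.IdealSheafData.ideal_pow, Pi.pow_apply, ih, hg j, Ideal.span_singleton_pow,
      Ideal.span_singleton_mul_span_singleton]

variable {E : X.Modules} {nabla : Coh.toAb E ⟶ Coh.toAb (CohB1.tensorMod E Λ.L)}
  (K : ConnSh.Cx (LogNCD.der Λ) E nabla)

theorem nsmul_id_app {M : X.Modules} (m : ℕ) (U : X.Opens) (x : Γ(M, U)) : (m • 𝟙 M).app U x = m • x := by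
  induction m with
  | zero => simp [Scheme.Modules.Hom.zero_app]
  | succ m ih => rw [succ_nsmul, succ_nsmul, Scheme.Modules.Hom.add_app, ← ih]; rfl

/-- A residue condition on a chart. -/
theorem bij_of_isIso (hEq : Coh.IsQCoh E) {V : X.affineOpens} {σ : Type u} [LinearOrder σ]
    {T : Twist Γ(X, V.1) Γ(E, V.1) Γ(Λ.L, V.1) σ r} (hT : IsChartTwist K V T) {i : Fin r} {k : σ}
    (hk : ∀ j, T.w.coord k (T.dl j) = if j = i then 1 else 0) (m : ℕ)
    {ρ : E ⟶ CohB1.tensorMod E (ClSub.quotMod (D i))} (hρ : LogNCD.IsResidue Λ E nabla i ρ)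
    {R : CohB1.tensorMod E (ClSub.quotMod (D i)) ⟶ CohB1.tensorMod E (ClSub.quotMod (D i))}
    (hR : (SecTwist.unitorR E).inv ≫ KoszTw.tensorMap (𝟙 E) (ClSub.toSubscheme (D i)) ≫ R = ρ)
    (hiso : IsIso (R + m • 𝟙 (CohB1.tensorMod E (ClSub.quotMod (D i))))) : T.Bij k i m := by
  obtain ⟨n, ⟨bE⟩⟩ := hT.basis
  have hsec : ∀ e, (R + m • 𝟙 (CohB1.tensorMod E (ClSub.quotMod (D i)))).app V.1 (tone E (D i) V e) =
      tone E (D i) V (T.Rh k e + m • e) := fun e => by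
    rw [map_add, map_nsmul, Scheme.Modules.Hom.add_app]
    show R.app V.1 (tone E (D i) V e) + (m • 𝟙 (CohB1.tensorMod E (ClSub.quotMod (D i)))).app V.1 _ = _
    rw [restrict_app E (D i) V hR, residue_app K i (T.w.coord k) (hT.res i k hk) hρ, ← hT.N_eq]
    rw [nsmul_id_app]
    rfl
  have hbij : Function.Bijective ((R + m • 𝟙 (CohB1.tensorMod E (ClSub.quotMod (D i)))).app V.1) :=
    (Scheme.Modules.Hom.isIso_iff_isIso_app.1 hiso V.1 |> fun h => ConcreteCategory.bijective_of_isIso _)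
  refine ⟨fun e => ?_, fun e c h => ?_⟩
  · obtain ⟨z, hz⟩ := hbij.2 (tone E (D i) V e)
    obtain ⟨e', rfl⟩ := exists_tone_eq E (D i) V hEq z
    obtain ⟨c, hc⟩ := exists_of_tone_eq_zero E (D i) V hEq (hT.gen i) bE
      (a := e - (T.Rh k e' + m • e')) (by rw [map_sub, ← hsec, hz, sub_self])
    exact ⟨e', c, eq_add_of_sub_eq' hc⟩
  · refine exists_of_tone_eq_zero E (D i) V hEq (hT.gen i) bE (hbij.1 ?_)
    rw [hsec, h, map_zero, tone_smul_gen E (D i) V (hT.gen i)]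

variable {I : X.IdealSheafData} {ν : Fin r → ℕ}
  {nabla' : Coh.toAb (CohB1.tensorMod E (ClSub.idealMod I)) ⟶
    Coh.toAb (CohB1.tensorMod (CohB1.tensorMod E (ClSub.idealMod I)) Λ.L)}
  (K' : ConnSh.Cx (LogNCD.der Λ) (CohB1.tensorMod E (ClSub.idealMod I)) nabla')

include K' in
/-- A residue condition on a chart, read on a twist. -/
theorem bij_twist_of_isIso (hc : ConnSh.IsConn (LogNCD.der Λ) E nabla) (hEq : Coh.IsQCoh E)
    (ht : LogNCD.IsTwist Λ E nabla I nabla') (hI : IsMultiple D I ν)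
    {V : X.affineOpens} {σ : Type u} [LinearOrder σ] {T : Twist Γ(X, V.1) Γ(E, V.1) Γ(Λ.L, V.1) σ r}
    (hT : IsChartTwist K V T) {i : Fin r} {k : σ} (hk : ∀ j, T.w.coord k (T.dl j) = if j = i then 1 else 0)
    (m μ : ℕ) (hμ : m + μ = ν i)
    {ρ : CohB1.tensorMod E (ClSub.idealMod I) ⟶
      CohB1.tensorMod (CohB1.tensorMod E (ClSub.idealMod I)) (ClSub.quotMod (D i))}
    (hρ : LogNCD.IsResidue Λ (CohB1.tensorMod E (ClSub.idealMod I)) nabla' i ρ)
    {R : CohB1.tensorMod (CohB1.tensorMod E (ClSub.idealMod I)) (ClSub.quotMod (D i)) ⟶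
      CohB1.tensorMod (CohB1.tensorMod E (ClSub.idealMod I)) (ClSub.quotMod (D i))}
    (hR : (SecTwist.unitorR (CohB1.tensorMod E (ClSub.idealMod I))).inv ≫
      KoszTw.tensorMap (𝟙 (CohB1.tensorMod E (ClSub.idealMod I))) (ClSub.toSubscheme (D i)) ≫ R = ρ)
    (hiso : IsIso (R - μ • 𝟙 (CohB1.tensorMod (CohB1.tensorMod E (ClSub.idealMod I)) (ClSub.quotMod (D i))))) :
    T.Bij k i m := by
  classical
  let E' := CohB1.tensorMod E (ClSub.idealMod I)
  have hEq' : Coh.IsQCoh E' := KFlatLib.isQCoh_tensor hEq (PPSheaf.isQCoh_idealMod I)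
  obtain ⟨k₀, hk₀⟩ := OmegaLib.exists_of_mem I V (T.Q ν)
    ((hI V T.g hT.gen).symm ▸ Ideal.mem_span_singleton_self _)
  have hspan : I.ideal V = Ideal.span {OmegaSh.idealSect I V.1 k₀} := by
    rw [hk₀]; exact hI V T.g hT.gen
  let θ := theta E V.1 k₀
  have hθ : Function.Bijective θ := by
    refine ⟨fun a b hab => T.reg_Q ν ?_, theta_surjective hEq hspan⟩
    show T.Q ν • a = T.Q ν • b
    rw [← hk₀, ← inclTwist_theta, ← inclTwist_theta]
    exact congrArg _ hab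
  obtain ⟨n, ⟨bE⟩⟩ := hT.basis
  let bE' := bE.map (LinearEquiv.ofBijective θ hθ)
  have hcoord : T.w.coord k (T.dlQ ν) = (ν i : Γ(X, V.1)) := by
    rw [Twist.dlQ, map_sum, Finset.sum_eq_single i (fun j _ hj => by rw [map_nsmul, hk, if_neg hj, smul_zero])
      (fun h => absurd (Finset.mem_univ i) h), map_nsmul, hk, if_pos rfl, nsmul_one]
  have hN : ∀ a, ev1 _ (T.w.coord k) (NE K' V (θ a)) = θ (T.Rh k a + ν i • a) := fun a => by
    rw [NE_theta K K' hc ht hEq hspan (hk₀ ▸ T.regular_tensor ν 1) (η := T.dlQ ν)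
      (by rw [hk₀, ← hT.δ_eq, T.δ_Q]) a, ev1_rTensor, map_add, ev1_tmul, hcoord, Nat.cast_smul_eq_nsmul, ← hT.N_eq]
    rfl
  have hsec : ∀ a, (R - μ • 𝟙 (CohB1.tensorMod E' (ClSub.quotMod (D i)))).app V.1 (tone E' (D i) V (θ a)) =
      tone E' (D i) V (θ (T.Rh k a + m • a)) := fun a => by
    show R.app V.1 (tone E' (D i) V (θ a)) - (μ • 𝟙 (CohB1.tensorMod E' (ClSub.quotMod (D i)))).app V.1 _ = _
    rw [restrict_app E' (D i) V hR, residue_app K' i (T.w.coord k) (hT.res i k hk) hρ, hN, nsmul_id_app, ← map_nsmul,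
      ← map_sub, ← map_nsmul, ← map_sub, ← hμ, add_smul, add_sub_assoc, add_sub_cancel_right]
  have hbij : Function.Bijective ((R - μ • 𝟙 (CohB1.tensorMod E' (ClSub.quotMod (D i)))).app V.1) :=
    (Scheme.Modules.Hom.isIso_iff_isIso_app.1 hiso V.1 |> fun h => ConcreteCategory.bijective_of_isIso _)
  refine ⟨fun e => ?_, fun e c h => ?_⟩
  · obtain ⟨z, hz⟩ := hbij.2 (tone E' (D i) V (θ e))
    obtain ⟨a', rfl⟩ := exists_tone_eq E' (D i) V hEq' z
    obtain ⟨e', rfl⟩ := hθ.2 a'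
    obtain ⟨c, hc'⟩ := exists_of_tone_eq_zero E' (D i) V hEq' (hT.gen i) bE'
      (a := θ e - θ (T.Rh k e' + m • e')) (by rw [map_sub, ← hsec, hz, sub_self])
    obtain ⟨c, rfl⟩ := hθ.2 c
    rw [← map_sub, ← map_smul] at hc'
    exact ⟨e', c, eq_add_of_sub_eq' (hθ.1 hc')⟩
  · obtain ⟨c', hc'⟩ := exists_of_tone_eq_zero E' (D i) V hEq' (hT.gen i) bE' (a := θ e) (hbij.1 (by
      rw [hsec, h, map_zero, map_smul, tone_smul_gen E' (D i) V (hT.gen i)]))
    obtain ⟨c', rfl⟩ := hθ.2 c'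
    rw [← map_smul] at hc'
    exact ⟨c', hθ.1 hc'⟩

set_option maxHeartbeats 1000000 in
/-- The twisted complex is quasi-isomorphic to the complex if on all charts the residues allow it. -/
theorem quasiIso_of_good (hd : OmegaSh.IsUniversal d) (hD : LogNCD.IsNCD D f) (hE : FlatMod.IsFinLocFree E)
    (hc : ConnSh.IsConn (LogNCD.der Λ) E nabla) (hI : IsMultiple D I ν) {φ : K'.K ⟶ K.K}
    {ψ : ∀ p : ℕ, K'.term p ⟶ K.term p}
    (hφ : ∀ p : ℕ, φ.f p = (K'.iso p).hom ≫ (SheafOfModules.toSheaf X.ringCatSheaf).map (ψ p) ≫ (K.iso p).inv)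
    (hψ : IsIncl K K' ψ)
    (hgood : ∀ (V : X.affineOpens) (σ : Type u) (_ : LinearOrder σ)
      (T : Twist Γ(X, V.1) Γ(E, V.1) Γ(Λ.L, V.1) σ r), IsChartTwist K V T → T.Good ν) :
    QuasiIso φ := by
  classical
  have hEq := QCoh.isQCoh_of_isFinLocFree hE
  let B : Set X.Opens := {O | ∃ V : X.affineOpens, V.1 = O ∧ (V.1 ≤ offD D ∨
    ∃ (_ : ChartOn d (D := D) V) (U₁ : X.Opens) (n : ℕ) (s : Fin n → Γ(E, U₁)),
      H23.Frame.IsFrame E s ∧ V.1 ≤ U₁)}
  have hB : Opens.IsBasis B := Opens.isBasis_iff_nbhd.2 fun {O x} hx => by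
    by_cases hxD : x ∈ offD D
    · obtain ⟨_, ⟨V, hV, rfl⟩, hxV, hle⟩ :=
        X.isBasis_affineOpens.exists_subset_of_mem_open (show x ∈ O ⊓ offD D from ⟨hx, hxD⟩) (O ⊓ offD D).2
      exact ⟨V, ⟨⟨V, hV⟩, rfl, Or.inl fun y hy => (hle hy).2⟩, hxV, fun y hy => (hle hy).1⟩
    · obtain ⟨U₁, n, hxU, ⟨e⟩⟩ := hE x
      obtain ⟨s, hs⟩ := H23.Frame.exists_frame e
      obtain ⟨V, hxV, hVO, ⟨C⟩⟩ := exists_chartOn (Ω' := Ω') hd hD (show x ∈ O ⊓ U₁ from ⟨hx, hxU⟩) hxD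
      exact ⟨V.1, ⟨V, rfl, Or.inr ⟨C, U₁, n, s, hs, fun y hy => (hVO hy).2⟩⟩, hxV, fun y hy => (hVO hy).1⟩
  have key : ∀ O ∈ B, ∃ V : X.affineOpens, V.1 = O ∧ ∃ k : Γ(ClSub.idealMod I, V.1),
      I.ideal V = Ideal.span {OmegaSh.idealSect I V.1 k} ∧
      (∀ p, IsSMulRegular (Γ(E, V.1) ⊗[Γ(X, V.1)] ↥(⋀[Γ(X, V.1)]^p Γ(Λ.L, V.1))) (OmegaSh.idealSect I V.1 k)) ∧
      (∀ y, (∃ c, dK K 0 V y = OmegaSh.idealSect I V.1 k • c) → ∃ u, y = OmegaSh.idealSect I V.1 k • u) ∧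
      ∀ (p : ℕ) y, (∃ c, dK K (p + 1) V y = OmegaSh.idealSect I V.1 k • c) →
        ∃ v u, y = dK K p V v + OmegaSh.idealSect I V.1 k • u := by
    rintro O ⟨V, rfl, hV | ⟨C, U₁, n, s, hs, hVU⟩⟩
    · have hI1 : I.ideal V = Ideal.span {1} := by
        rw [hI V (fun _ => 1) fun j => (ideal_eq_top fun y hy hyj => hV hy (Set.mem_iUnion.2 ⟨j, hyj⟩)).trans
          Ideal.span_singleton_one.symm]
        simp
      obtain ⟨k, hk⟩ := OmegaLib.exists_of_mem I V 1 (hI1.symm ▸ Ideal.mem_span_singleton_self _)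
      refine ⟨V, rfl, k, by rw [hk]; exact hI1, fun p => ?_, fun y _ => ⟨y, ?_⟩, fun p y _ => ⟨0, y, ?_⟩⟩
      · rw [hk]; exact IsSMulRegular.one _
      · rw [hk, one_smul]
      · rw [hk, one_smul, map_zero, zero_add]
    · obtain ⟨σ, inst, T, hT⟩ := exists_chartTwist K hc C s hs hVU
      obtain ⟨k, hk⟩ := OmegaLib.exists_of_mem I V (T.Q ν)
        ((hI V T.g hT.gen).symm ▸ Ideal.mem_span_singleton_self _)
      have hν := hgood V σ inst T hT
      refine ⟨V, rfl, k, by rw [hk]; exact hI V T.g hT.gen, fun p => ?_, fun y hy => ?_, fun p y hy => ?_⟩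
      · rw [hk]; exact T.regular_tensor ν p
      · rw [hk] at hy ⊢
        exact T.split_of_le ν hν y (by simpa only [hT.d_eq] using hy)
      · rw [hk] at hy ⊢
        obtain ⟨v, u, h⟩ := T.split_of_le ν hν y (by simpa only [hT.d_eq] using hy)
        exact ⟨v, u, by rw [h, hT.d_eq]⟩
  refine quasiIso_of_isBasis φ hB (fun p O hO => ?_) fun p O hO => ?_
  · obtain ⟨V, rfl, k, hk, hreg, -, -⟩ := key O hO
    exact phi_injective hEq hφ hψ hk p (hreg p)
  · obtain ⟨V, rfl, k, hk, -, h0, h1⟩ := key O hO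
    exact phi_exact hEq hφ hψ hk h0 h1 p

end Groth.Agent.LogNCD2
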